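import Cfsg.Agent.G2Octonion.Twist
import Mathlib.FieldTheory.IsAlgClosed.AlgebraicClosure
import Mathlib.FieldTheory.Perfect
import Mathlib.FieldTheory.Finite.Basic
import Mathlib.Algebra.CharP.CharAndCard

/-!
Upper bounds for the orders of the elements of the group of type G2.
-/

set_option autoImplicit false
set_option linter.style.haveILetI false

namespace CfsgLib.G2Octonion

open Cfsg.Lie Matrix CfsgLib.SylowTwoAb.Oct

noncomputable section

/-- The power of the characteristic that bounds the unipotent elements. -/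
def uniExp (p : ℕ) : ℕ := if p = 2 then 8 else if p = 3 then 9 else if p = 5 then 25 else p

theorem uniExp_spec {p : ℕ} (hp : p.Prime) :
    ∃ j, uniExp p = p ^ j ∧ 7 ≤ p ^ j ∧ (p = 2 → 8 ≤ p ^ j) := by
  by_cases h2 : p = 2
  · exact ⟨3, by simp [uniExp, h2], by simp [h2], fun _ => by simp [h2]⟩
  by_cases h3 : p = 3
  · exact ⟨2, by simp [uniExp, h3], by simp [h3], fun h => absurd h h2⟩
  by_cases h5 : p = 5
  · exact ⟨2, by simp [uniExp, h5], by simp [h5], fun h => absurd h h2⟩
  refine ⟨1, by simp [uniExp, h2, h3, h5], ?_, fun h => absurd h h2⟩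
  have h4 : p ≠ 4 := fun h => by rw [h] at hp; norm_num at hp
  have h6 : p ≠ 6 := fun h => by rw [h] at hp; norm_num at hp
  have := hp.two_le
  rw [pow_one]
  omega

theorem goodExp_uniExp (p q : ℕ) : GoodExp p q (uniExp p) := by
  unfold uniExp
  split_ifs with h2 h3 h5
  · exact Or.inr (Or.inr (Or.inr (Or.inr (Or.inr (Or.inl ⟨h2, Or.inl dvd_rfl⟩)))))
  · exact Or.inr (Or.inr (Or.inr (Or.inr (Or.inr (Or.inr ⟨Or.inl h3, by rw [h3]; norm_num⟩)))))
  · exact Or.inr (Or.inr (Or.inr (Or.inr (Or.inr (Or.inr ⟨Or.inr h5, by rw [h5]; norm_num⟩)))))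
  · exact Or.inr (Or.inr (Or.inr (Or.inl (Dvd.intro (q - 1) rfl))))

theorem GoodExp.of_dvd {p q d e : ℕ} (h : GoodExp p q e) (hde : d ∣ e) : GoodExp p q d := by
  unfold GoodExp at h ⊢
  rcases h with h | h | h | h | h | ⟨hp, h | h⟩ | ⟨hp, h⟩
  · exact Or.inl (hde.trans h)
  · exact Or.inr (Or.inl (hde.trans h))
  · exact Or.inr (Or.inr (Or.inl (hde.trans h)))
  · exact Or.inr (Or.inr (Or.inr (Or.inl (hde.trans h))))
  · exact Or.inr (Or.inr (Or.inr (Or.inr (Or.inl (hde.trans h)))))
  · exact Or.inr (Or.inr (Or.inr (Or.inr (Or.inr (Or.inl ⟨hp, Or.inl (hde.trans h)⟩)))))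
  · exact Or.inr (Or.inr (Or.inr (Or.inr (Or.inr (Or.inl ⟨hp, Or.inr (hde.trans h)⟩)))))
  · exact Or.inr (Or.inr (Or.inr (Or.inr (Or.inr (Or.inr ⟨hp, hde.trans h⟩)))))

theorem det_scalar_one_sub {K : Type*} [Field K] (A : Matrix (Fin 3) (Fin 3) K) :
    (Matrix.scalar (Fin 3) (1 : K) - A).det = 1 - A.trace + A.adjugate.trace - A.det := by
  rw [map_one, Matrix.det_fin_three, Matrix.det_fin_three, Matrix.adjugate_fin_three, Matrix.trace_fin_three,
    Matrix.trace_fin_three]
  simp
  ring

theorem partB_eq_adjugate {K : Type*} [Field K] {g : G2 K} (hg : app g (e1 K) = e1 K) :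
    partB g = (partA g).adjugateᵀ := by
  have h1 := partA_transpose_mul_partB hg
  have h2 : (partA g)ᵀ * (partA g).adjugateᵀ = 1 := by
    rw [← Matrix.transpose_mul, Matrix.adjugate_mul, det_partA hg, one_smul, Matrix.transpose_one]
  exact (inv_eq_right_inv h1).symm.trans (inv_eq_right_inv h2)

section main

variable {K : Type*} [Field K] [IsAlgClosed K] {p : ℕ} [Fact p.Prime] [CharP K p]

/-- The bound for an automorphism of the octonions over an algebraically closed field that commutes with a
semisimple one whose eigenvalues are permuted by a twisted Frobenius map. -/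
theorem bound_of_twist {k : G2 K} {a e m : ℕ} (hk : k ^ (p ^ e * m) = 1) (hm : ¬ p ∣ m)
    (hfix : app (k ^ p ^ e) (e1 K) = e1 K) (hne : k ^ p ^ e ≠ 1) (hz : ¬ IsEig (partA (k ^ p ^ e)) 1 → tr (app k (e1 K)) = 1)
    {tw : Bool} (hphi : ∀ n : ℕ, app (k ^ n) (e1 K) = e1 K →
      ∀ x, IsEig (partA (k ^ n)) x → IsEig (partA (k ^ n)) (eigMap tw (p ^ a) x)) :
    ∃ d, GoodExp p (p ^ a) d ∧ k ^ d = 1 := by
  have hp : p.Prime := Fact.out
  set s := k ^ p ^ e with hs
  have hsm : s ^ m = 1 := by rw [hs, ← pow_mul, hk]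
  have hmK : (m : K) ≠ 0 := fun h => hm ((CharP.cast_eq_zero_iff K p m).1 h)
  by_cases h1 : IsEig (partA s) 1
  · -- the semisimple part has a fixed point
    obtain ⟨x1, x2, x3, -, hd, hroots⟩ := exists_triple (partA s)
    rw [det_partA hfix] at hd
    obtain ⟨l, l', hll, hroot'⟩ : ∃ l l' : K, l * l' = 1 ∧ ∀ x, IsEig (partA s) x ↔ x = 1 ∨ x = l ∨ x = l' := by
      rcases (hroots 1).1 h1 with h | h | h
      · exact ⟨x2, x3, by rw [← h, one_mul] at hd; exact hd.symm, fun x => by rw [hroots, ← h]⟩
      · exact ⟨x1, x3, by rw [← h, mul_one] at hd; exact hd.symm, fun x => by rw [hroots, ← h]; tauto⟩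
      · exact ⟨x1, x2, by rw [← h, mul_one] at hd; exact hd.symm, fun x => by rw [hroots, ← h]; tauto⟩
    have hl0 : l ≠ 0 := left_ne_zero_of_mul (hll.trans_ne one_ne_zero)
    have hl' : l' = l⁻¹ := (inv_eq_of_mul_eq_one_right hll).symm
    have hq1 : 1 ≤ p ^ a := Nat.one_le_pow _ _ hp.pos
    have hphis := hphi (p ^ e) hfix l ((hroot' l).2 (Or.inr (Or.inl rfl)))
    obtain ⟨N, hN, hlN⟩ : ∃ N, (N = p ^ a - 1 ∨ N = p ^ a + 1) ∧ l ^ N = 1 := by
      by_cases hl1 : l = 1
      · exact ⟨p ^ a - 1, Or.inl rfl, by rw [hl1, one_pow]⟩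
      have fixq : ∀ {z : K}, z ≠ 0 → z ^ p ^ a = z → z ^ (p ^ a - 1) = 1 := fun hz h => by
        refine mul_left_cancel₀ hz ?_
        rw [← pow_succ', Nat.sub_add_cancel hq1, h, mul_one]
      have invq : l ^ p ^ a = l⁻¹ → l ^ (p ^ a + 1) = 1 := fun h => by
        rw [pow_succ, h, inv_mul_cancel₀ hl0]
      rcases (hroot' _).1 hphis with h | h | h
      · refine absurd ?_ hl1
        refine eigMap_injective (p := p) tw a (h.trans ?_)
        unfold eigMap; split_ifs <;> simp
      · unfold eigMap at h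
        split_ifs at h
        · exact ⟨_, Or.inr rfl, invq (inv_eq_iff_eq_inv.1 h)⟩
        · exact ⟨_, Or.inl rfl, fixq hl0 h⟩
      · rw [hl'] at h
        unfold eigMap at h
        split_ifs at h
        · exact ⟨_, Or.inl rfl, fixq hl0 (inv_injective h)⟩
        · exact ⟨_, Or.inr rfl, invq h⟩
    have hsN : s ^ N = 1 := pow_eq_one_of_eig p hsm hmK hfix fun x hx => by
      rcases (hroot' x).1 hx with rfl | rfl | rfl
      · exact one_pow _
      · exact hlN
      · rw [hl', inv_pow, hlN, inv_one]
    have hup : (k ^ m) ^ p = 1 := by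
      have hu : (k ^ m) ^ p ^ e = 1 := by rw [← pow_mul, mul_comm, hk]
      by_cases hps : p = 2 ∨ p = 3 ∨ p = 5
      · exact unipotent_pow_eq_one hps (Commute.pow_pow (Commute.refl k) m (p ^ e)) hsm hmK hu hne hfix h1
      · push Not at hps
        have h7 : 7 ≤ p := by
          have h4 : p ≠ 4 := fun h => by rw [h] at hp; norm_num at hp
          have h6 : p ≠ 6 := fun h => by rw [h] at hp; norm_num at hp
          have := hp.two_le
          omega
        have := unipotent_bound (p := p) (k := e) hu (j := 1) (by rw [pow_one]; exact h7) (fun h => absurd h hps.1)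
        rwa [pow_one] at this
    refine ⟨p * N, ?_, ?_⟩
    · rcases hN with rfl | rfl
      · exact Or.inr (Or.inr (Or.inr (Or.inl dvd_rfl)))
      · exact Or.inr (Or.inr (Or.inr (Or.inr (Or.inl dvd_rfl))))
    · -- `k ^ (p * N)` is killed by both `m` and a power of `p`
      have e1' : (k ^ (p * N)) ^ m = 1 := by
        rw [← pow_mul, show p * N * m = (m * p) * N by ring, pow_mul, pow_mul, hup, one_pow]
      have e2' : (k ^ (p * N)) ^ p ^ e = 1 := by
        rw [← pow_mul, show p * N * p ^ e = (p ^ e * N) * p by ring, pow_mul, pow_mul, ← hs, hsN, one_pow]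
      have hcop : Nat.gcd m (p ^ e) = 1 :=
        Nat.Coprime.pow_right e (hp.coprime_iff_not_dvd.2 hm).symm
      have := pow_gcd_eq_one.2 ⟨e1', e2'⟩
      rwa [hcop, pow_one] at this
  · -- no fixed point: the element fixes the idempotent
    have hB1 : ¬ IsEig (partB s) 1 := fun h => h1 (by simpa using ((isEig_partB hfix).1 h).2)
    set v := app k (e1 K) with hv
    have hsv : app s v = v := by
      rw [hv, ← app_mul_group, (Commute.pow_self k (p ^ e)).eq, app_mul_group, hfix]
    have hsv' : app s v = (1 : K) • v := by rw [hsv, one_smul]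
    obtain ⟨-, -, hA, hB⟩ := (app_fix_iff hfix).1 hsv'
    have hzA : zA K v = 0 := by
      by_contra hne'
      exact h1 (isEig_iff_exists.2 ⟨_, hne', hA⟩)
    have hzB : zB K v = 0 := by
      by_contra hne'
      exact hB1 (isEig_iff_exists.2 ⟨_, hne', hB⟩)
    have hvd : v = v 0 • e1 K + v 7 • (one8 K - e1 K) := by
      conv_lhs => rw [decomp v, hzA, hzB, show inA (0 : Fin 3 → K) = 0 by funext i; fin_cases i <;> simp [inA],
        show inB (0 : Fin 3 → K) = 0 by funext i; fin_cases i <;> simp [inB]]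
      rw [add_zero, add_zero]
    have ht : v 0 + v 7 = 1 := hz h1
    have hn : v 0 * v 7 = 0 := by
      have e0 := app_nQ k (e1 K)
      rw [← hv, nQ_apply, nQ_apply] at e0
      have a1 := congrFun hzA 0; have a2 := congrFun hzA 1; have a3 := congrFun hzA 2
      simp [zA] at a1 a2 a3
      simp [a1, a2, a3, e1] at e0
      exact mul_eq_zero.2 e0
    have hkfix : app k (e1 K) = e1 K := by
      rcases mul_eq_zero.1 hn with h | h
      · exfalso
        rw [h, zero_add] at ht
        rw [h, ht, zero_smul, zero_add, one_smul] at hvd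
        have hcfix : app (k * tau K) (one8 K - e1 K) = one8 K - e1 K := by
          rw [app_mul_group, app_tau_e2, ← hv, hvd]
        have hcfix' : app (k * tau K) (e1 K) = e1 K := by
          have := hcfix
          rw [sub_eq_add_neg, app_add', app_one, ← neg_one_smul K (e1 K), app_smul', add_right_inj] at this
          exact smul_right_injective _ (neg_ne_zero.2 one_ne_zero) this
        have htau : (tau K)⁻¹ = tau K := inv_eq_of_mul_eq_one_right tau_mul_tau
        have hconj : k * tau K * (tau K * s * tau K) * (k * tau K)⁻¹ = s := by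
          rw [_root_.mul_inv_rev, htau]
          simp only [mul_assoc]
          rw [← mul_assoc (tau K) (tau K), ← mul_assoc (tau K) (tau K), tau_mul_tau, one_mul, one_mul, ← mul_assoc,
            (Commute.self_pow k (p ^ e)).eq, mul_assoc, mul_inv_cancel, mul_one]
        have htr := congrArg (fun g : G2 K => (partA g).trace) hconj
        rw [partA_mul (inv_fix hcfix'), partA_mul (conj_tau_fix hfix), Matrix.trace_mul_comm, ← Matrix.mul_assoc,
          ← partA_mul hcfix', inv_mul_cancel, partA_one, Matrix.one_mul, partA_conj_tau hfix,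
          partB_eq_adjugate hfix, Matrix.trace_transpose] at htr
        apply h1
        rw [IsEig, det_scalar_one_sub, det_partA hfix, ← htr]
        ring
      · rw [h, add_zero] at ht
        exact hvd.trans (by rw [h, ht, zero_smul, add_zero, one_smul])
    have hkk : ∀ n : ℕ, app (k ^ n) (e1 K) = e1 K := fun n => by
      induction n with
      | zero => simp [app_one_group]
      | succ n ih => rw [pow_succ', app_mul_group, ih, hkfix]
    let kk : stabE K := ⟨k, hkfix⟩
    have hpow : ∀ n : ℕ, partA (k ^ n) = partA k ^ n := fun n => by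
      induction n with
      | zero => rw [pow_zero, pow_zero, partA_one]
      | succ n ih => rw [pow_succ, partA_mul hkfix, ih, pow_succ]
    have hk1 : ¬ IsEig (partA k) 1 := by
      intro h
      obtain ⟨u, hu0, hu⟩ := isEig_iff_exists.1 h
      rw [one_smul] at hu
      refine h1 (isEig_iff_exists.2 ⟨u, hu0, ?_⟩)
      rw [hs, hpow, one_smul]
      generalize p ^ e = n
      induction n with
      | zero => simp
      | succ n ih => rw [pow_succ', ← Matrix.mulVec_mulVec, ih, hu]
    obtain ⟨d, hd, hdk⟩ := three_bound (p := p) (G := partA k) (det_partA hkfix) hk1 (tw := tw) (a₀ := a)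
      (by simpa using hphi 1 (hkk 1))
    refine ⟨d, hd, eq_of_partA (hkk d) (app_one_group _) ?_⟩
    rw [hpow, hdk, partA_one]

end main

section finite

variable {F : Type*} [Field F] [Fintype F] {p a : ℕ} [hp : Fact p.Prime]

/-- The order of every element of the group of type G2 is bounded by one of the standard exponents. -/
theorem order_bound (hF : Fintype.card F = p ^ a) (g : G2 F) :
    GoodExp p (p ^ a) (orderOf g) := by
  haveI : CharP F p := charP_of_card_eq_prime_pow hF
  have hn : 0 < orderOf g := orderOf_pos g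
  obtain ⟨e, m, hm, hem⟩ := Nat.exists_eq_pow_mul_and_not_dvd hn.ne' p hp.out.ne_one
  have hg : g ^ (p ^ e * m) = 1 := by rw [← hem, pow_orderOf_eq_one]
  by_cases hm1 : g ^ p ^ e = 1
  · obtain ⟨j, hj, hj7, hj2⟩ := uniExp_spec hp.out
    refine (goodExp_uniExp p (p ^ a)).of_dvd (orderOf_dvd_of_pow_eq_one ?_)
    rw [hj]
    exact unipotent_bound (p := p) hm1 hj7 hj2
  set s := g ^ p ^ e with hs
  have hsm : s ^ m = 1 := by rw [hs, ← pow_mul, hg]
  have hmF : (m : F) ≠ 0 := fun h => hm ((CharP.cast_eq_zero_iff F p m).1 h)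
  obtain ⟨z, hz, hdisc⟩ := exists_disc s (det_mat s) hsm hmF
  let K := AlgebraicClosure F
  haveI : CharP K p := charP_of_injective_algebraMap (algebraMap F K).injective p
  let ι : F →+* K := algebraMap F K
  let σ : K ≃+* K := iterateFrobeniusEquiv K p a
  have hσ : ∀ x : K, σ x = x ^ p ^ a := fun x => iterateFrobeniusEquiv_def K p a x
  have hσι : ∀ x : F, σ (ι x) = ι x := fun x => by
    rw [hσ, ← map_pow, ← hF, FiniteField.pow_card]
  have hfixed : ∀ g' : G2 F, autG σ (mapG ι g') = mapG ι g' := fun g' => by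
    refine Subtype.ext (Units.ext (Matrix.ext fun i j => ?_))
    exact hσι _
  -- the roots of the quadratic of `z`
  set t := ι (tr z) with ht
  set c := ι (nQ F z) with hc
  obtain ⟨l, hl⟩ := IsAlgClosed.exists_root (Polynomial.X ^ 2 - Polynomial.C t * Polynomial.X + Polynomial.C c : Polynomial K)
    (by
      have : (Polynomial.X ^ 2 - Polynomial.C t * Polynomial.X + Polynomial.C c : Polynomial K).degree = 2 := by
        compute_degree!
      rw [this]; decide)
  simp [Polynomial.IsRoot] at hl
  set u := t - l with hu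
  have hne : l - u ≠ 0 := by
    intro h0
    apply hdisc
    apply (algebraMap F K).injective
    rw [map_sub, map_pow, map_mul, map_ofNat, map_zero]
    show t ^ 2 - 4 * c = 0
    rw [hu] at h0
    linear_combination (2 * l - t) * h0 - 4 * hl
  set zk : Fin 8 → K := ι ∘ z with hzk
  have htz : tr zk = t := by simp [hzk, tr, ht]
  have hnz : nQ K zk = c := by simp [hzk, hc, nQ_apply]
  set ee : Fin 8 → K := (l - u)⁻¹ • (zk - u • one8 K) with hee
  have htr : tr ee = 1 := by
    rw [hee, show tr ((l - u)⁻¹ • (zk - u • one8 K)) = (l - u)⁻¹ * tr (zk - u • one8 K) by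
      simp only [tr, Pi.smul_apply, smul_eq_mul]; ring, tr_sub_smul, htz, inv_mul_eq_div, div_eq_one_iff_eq hne, hu]
    ring
  have hnq : nQ K ee = 0 := by
    rw [hee, QuadraticMap.map_smul, smul_eq_mul, show zk - u • one8 K = zk + (-u) • one8 K by module, nQ_add',
      QuadraticMap.map_smul, hnz,
      pol_comm, pol_smul_left, pol_one, htz, show nQ K (one8 K) = 1 by simp [nQ_apply, one8], smul_eq_mul, hu]
    refine mul_eq_zero_of_right _ ?_
    linear_combination hl
  obtain ⟨h, hh⟩ := exists_move htr hnq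
  have hσz : (σ : K →+* K) ∘ zk = zk := by funext i; simp [hzk, hσι]
  have hσe : (σ : K →+* K) ∘ ee = ee ∨ (σ : K →+* K) ∘ ee = one8 K - ee := by
    have hroot : (σ l - l) * (σ l - u) = 0 := by
      have e' := congrArg σ hl
      simp only [map_add, map_sub, map_mul, map_pow, map_zero, ht, hc, hσι] at e'
      rw [← ht, ← hc] at e'
      rw [hu]
      linear_combination e' - hl
    have hσone : ∀ i, σ (one8 K i) = one8 K i := fun i => by fin_cases i <;> simp [one8]
    have hee' : (σ : K →+* K) ∘ ee = (σ l - σ u)⁻¹ • (zk - σ u • one8 K) := by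
      funext i
      have := congrFun hσz i
      simp only [Function.comp_apply, RingEquiv.coe_toRingHom] at this
      simp [hee, map_inv₀, this, hσone]
    have hσu : σ u = t - σ l := by rw [hu, map_sub, ht, hσι]
    rcases mul_eq_zero.1 hroot with h0 | h0
    · left
      rw [hee', hσu, sub_eq_zero.1 h0, ← hu]
    · right
      have hσl : σ l = u := sub_eq_zero.1 h0
      have hσu' : σ u = l := by rw [hσu, hσl, hu]; ring
      rw [hee', hσl, hσu', hee, show (u - l)⁻¹ = -(l - u)⁻¹ by rw [← neg_sub, inv_neg]]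
      funext i
      simp only [Pi.smul_apply, Pi.sub_apply, smul_eq_mul]
      linear_combination (one8 K i) * inv_mul_cancel₀ hne
  obtain ⟨tw, htw⟩ := exists_twist σ hσ hh hσe
  set k : G2 K := h * mapG ι g * h⁻¹ with hk
  have hpow : ∀ n : ℕ, k ^ n = h * mapG ι (g ^ n) * h⁻¹ := fun n => by rw [hk, conj_pow, map_pow]
  have hsfix : app (mapG ι s) ee = ee := by
    rw [hee, app_smul', show zk - u • one8 K = zk + (-u) • one8 K by module, app_add', app_smul', app_one, hzk,
      app_mapG, hz]
  have hkfix : app (k ^ p ^ e) (e1 K) = e1 K := by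
    rw [hpow, ← hs, app_mul_group, app_mul_group, ← hh, app_inv_app, hsfix]
  obtain ⟨d, hd, hdk⟩ := bound_of_twist (p := p) (a := a) (e := e) (m := m) (k := k) (tw := tw)
    (by rw [hpow, hg, map_one, mul_one, mul_inv_cancel]) hm hkfix
    (fun h1 => hm1 (by
      rw [hpow, ← hs, conj_eq_one_iff, ← map_one (mapG ι)] at h1
      exact mapG_injective ι h1))
    (fun _ => by rw [app_tr']; simp [tr, e1])
    (fun n hn x hx => by rw [hpow] at hn hx ⊢; exact htw _ (hfixed _) hn x hx)
  refine hd.of_dvd (orderOf_dvd_of_pow_eq_one (mapG_injective ι ?_))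
  rw [hpow, conj_eq_one_iff] at hdk
  rw [hdk, map_one]

end finite

end

end CfsgLib.G2Octonion
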