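import Mathlib.LinearAlgebra.Matrix.Charpoly.Eigs
import Mathlib.LinearAlgebra.Matrix.Charpoly.Coeff
import Mathlib.FieldTheory.IsAlgClosed.Basic
import Mathlib.Algebra.CharP.Lemmas
import Mathlib.LinearAlgebra.Matrix.CharP

/-!
Orders of three by three matrices of determinant one whose eigenvalues are permuted by `λ ↦ λ ^ q` or `λ ↦ λ ^ (-q)`.
-/

set_option autoImplicit false
set_option linter.style.haveILetI false

namespace CfsgLib.G2Octonion

open Matrix Polynomial

/-- The exponents that bound the orders of the elements of the group of type G2. -/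
def GoodExp (p q d : ℕ) : Prop :=
  d ∣ q ^ 2 + q + 1 ∨ d ∣ q ^ 2 - q + 1 ∨ d ∣ q ^ 2 - 1 ∨ d ∣ p * (q - 1) ∨ d ∣ p * (q + 1) ∨
    (p = 2 ∧ (d ∣ 8 ∨ d ∣ 12)) ∨ ((p = 3 ∨ p = 5) ∧ d ∣ p ^ 2)

variable {K : Type*} [Field K] [IsAlgClosed K]

/-- An eigenvalue of a matrix. -/
def IsEig (G : Matrix (Fin 3) (Fin 3) K) (x : K) : Prop := (Matrix.scalar (Fin 3) x - G).det = 0

theorem exists_triple (G : Matrix (Fin 3) (Fin 3) K) :
    ∃ a b c : K, G.charpoly = (X - C a) * (X - C b) * (X - C c) ∧ G.det = a * b * c ∧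
      ∀ x, IsEig G x ↔ x = a ∨ x = b ∨ x = c := by
  have hm := G.charpoly_monic
  have hs : G.charpoly.Splits := IsAlgClosed.splits _
  have hcard : G.charpoly.roots.card = 3 := by
    rw [← hs.natDegree_eq_card_roots, Matrix.charpoly_natDegree_eq_dim, Fintype.card_fin]
  obtain ⟨a, b, c, habc⟩ := Multiset.card_eq_three.1 hcard
  refine ⟨a, b, c, ?_, ?_, fun x => ?_⟩
  · conv_lhs => rw [hs.eq_prod_roots_of_monic hm, habc]
    simp [mul_assoc]
  · rw [Matrix.det_eq_prod_roots_charpoly, habc]
    simp [mul_assoc]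
  · rw [IsEig, ← Matrix.eval_charpoly]
    conv_lhs => rw [hs.eq_prod_roots_of_monic hm, habc]
    simp [sub_eq_zero]

variable {p : ℕ} [Fact p.Prime] [CharP K p]

omit [IsAlgClosed K] in
/-- A matrix is killed by a product of the factors of its characteristic polynomial. -/
theorem pow_eq_one_of_dvd (G : Matrix (Fin 3) (Fin 3) K) {N e k : ℕ} (he : e ≤ p ^ k)
    (h : G.charpoly ∣ (X ^ N - 1) ^ e) : G ^ (N * p ^ k) = 1 := by
  haveI : CharP (Matrix (Fin 3) (Fin 3) K) p := inferInstance
  obtain ⟨g, hg⟩ := h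
  have h1 := congrArg (aeval G) hg
  rw [map_mul, Matrix.aeval_self_charpoly, zero_mul] at h1
  simp only [map_pow, map_sub, aeval_X, map_one] at h1
  have h2 : (G ^ N - 1) ^ p ^ k = 0 := by rw [← Nat.sub_add_cancel he, pow_add, h1, mul_zero]
  rw [sub_pow_char_pow_of_commute (R := Matrix (Fin 3) (Fin 3) K) p k (x := G ^ N) (y := 1) (Commute.one_right _),
    one_pow, sub_eq_zero, ← pow_mul] at h2
  exact h2

omit [IsAlgClosed K] [Fact p.Prime] [CharP K p] in
theorem dvd_of_pow_eq_one {a : K} {N : ℕ} (h : a ^ N = 1) : (X - C a) ∣ (X ^ N - 1 : K[X]) := by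
  rw [dvd_iff_isRoot]
  simp [h]

omit [IsAlgClosed K] [Fact p.Prime] [CharP K p] in
theorem distinct_dvd {a b c : K} (hab : a ≠ b) (hac : a ≠ c) (hbc : b ≠ c) {N : ℕ} (ha : a ^ N = 1)
    (hb : b ^ N = 1) (hc : c ^ N = 1) : (X - C a) * (X - C b) * (X - C c) ∣ (X ^ N - 1 : K[X]) :=
  ((isCoprime_X_sub_C_of_isUnit_sub (sub_ne_zero.2 hac).isUnit).mul_left
    (isCoprime_X_sub_C_of_isUnit_sub (sub_ne_zero.2 hbc).isUnit)).mul_dvd
      ((isCoprime_X_sub_C_of_isUnit_sub (sub_ne_zero.2 hab).isUnit).mul_dvd (dvd_of_pow_eq_one ha)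
        (dvd_of_pow_eq_one hb)) (dvd_of_pow_eq_one hc)

/-- All eigenvalues killed by `N` kill the matrix up to a power of the characteristic. -/
theorem exists_pow_eq_one (G : Matrix (Fin 3) (Fin 3) K) {N : ℕ} (h : ∀ x, IsEig G x → x ^ N = 1) :
    ∃ k, G ^ (N * p ^ k) = 1 := by
  obtain ⟨a, b, c, hf, -, hroots⟩ := exists_triple G
  refine ⟨3, pow_eq_one_of_dvd (e := 3) G ?_ ?_⟩
  · exact (Nat.lt_two_pow_self (n := 3)).le.trans (Nat.pow_le_pow_left (Fact.out : p.Prime).two_le 3)
  · rw [hf, pow_succ, pow_two]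
    exact mul_dvd_mul (mul_dvd_mul (dvd_of_pow_eq_one (h a ((hroots a).2 (Or.inl rfl))))
      (dvd_of_pow_eq_one (h b ((hroots b).2 (Or.inr (Or.inl rfl))))))
      (dvd_of_pow_eq_one (h c ((hroots c).2 (Or.inr (Or.inr rfl)))))

/-- The Frobenius map of the eigenvalues: `λ ↦ λ ^ q` or `λ ↦ λ ^ (-q)`. -/
noncomputable def eigMap (tw : Bool) (q : ℕ) (x : K) : K := if tw then (x ^ q)⁻¹ else x ^ q

omit [IsAlgClosed K] [Fact p.Prime] [CharP K p] in
theorem eigMap_mul (tw : Bool) (q : ℕ) (x y : K) : eigMap tw q (x * y) = eigMap tw q x * eigMap tw q y := by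
  unfold eigMap; split_ifs <;> simp [mul_pow, mul_comm]

omit [IsAlgClosed K] in
theorem eigMap_injective (tw : Bool) (a : ℕ) : Function.Injective (eigMap (K := K) tw (p ^ a)) := by
  intro x y h
  have h' : x ^ p ^ a = y ^ p ^ a := by
    unfold eigMap at h
    split_ifs at h
    · exact inv_injective h
    · exact h
  exact iterateFrobenius_inj K p a (by simpa [iterateFrobenius_def] using h')

omit [IsAlgClosed K] [Fact p.Prime] [CharP K p] in
theorem eigMap_fix (tw : Bool) {q : ℕ} (hq : 1 ≤ q) {x : K} (hx : x ≠ 0) (h : eigMap tw q x = x) :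
    x ^ (if tw then q + 1 else q - 1) = 1 := by
  unfold eigMap at h
  split_ifs with htw
  · rw [htw, if_pos rfl] at h
    rw [pow_succ]
    nth_rewrite 2 [← h]
    rw [mul_inv_cancel₀ (pow_ne_zero _ hx)]
  · rw [if_neg htw] at h
    refine mul_left_cancel₀ hx ?_
    rw [← pow_succ', Nat.sub_add_cancel hq, h, mul_one]

omit [IsAlgClosed K] [Fact p.Prime] [CharP K p] in
theorem eigMap_sq (tw : Bool) {q : ℕ} (hq : 1 ≤ q) {x : K} (hx : x ≠ 0)
    (h : eigMap tw q (eigMap tw q x) = x) : x ^ (q ^ 2 - 1) = 1 := by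
  have h' : x ^ q ^ 2 = x := by
    conv_rhs => rw [← h]
    unfold eigMap
    cases tw <;> simp [inv_pow, ← pow_mul, sq]
  refine mul_left_cancel₀ hx ?_
  rw [← pow_succ', Nat.sub_add_cancel (Nat.one_le_pow _ _ (by omega)), h', mul_one]

/-- The bound for a matrix without eigenvalue one. -/
theorem three_bound {G : Matrix (Fin 3) (Fin 3) K} (hdet : G.det = 1) (h1 : ¬ IsEig G 1) {tw : Bool} {a₀ : ℕ}
    (hphi : ∀ x, IsEig G x → IsEig G (eigMap tw (p ^ a₀) x)) :
    ∃ d, GoodExp p (p ^ a₀) d ∧ G ^ d = 1 := by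
  classical
  have hp : p.Prime := Fact.out
  have hinj := eigMap_injective (K := K) (p := p) tw a₀
  generalize hq : p ^ a₀ = q at hinj hphi ⊢
  have hq1 : 1 ≤ q := hq ▸ Nat.one_le_pow _ _ hp.pos
  obtain ⟨a, b, c, hf, hd, hroots⟩ := exists_triple G
  rw [hdet] at hd
  have hne : ∀ x, IsEig G x → x ≠ 0 := by
    intro x hx h0
    rcases (hroots x).1 hx with h | h | h <;> rw [← h, h0] at hd <;> simp at hd
  by_cases hdis : a ≠ b ∧ a ≠ c ∧ b ≠ c
  · obtain ⟨hab, hac, hbc⟩ := hdis
    have fin : ∀ N, (∀ x, IsEig G x → x ^ N = 1) → G ^ N = 1 := fun N hN => by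
      have := pow_eq_one_of_dvd (p := p) G (N := N) (e := 1) (k := 0) (by simp) (by
        rw [pow_one, hf]
        exact distinct_dvd hab hac hbc (hN a ((hroots a).2 (Or.inl rfl)))
          (hN b ((hroots b).2 (Or.inr (Or.inl rfl)))) (hN c ((hroots c).2 (Or.inr (Or.inr rfl)))))
      simpa using this
    by_cases h2 : ∀ x, IsEig G x → eigMap tw q (eigMap tw q x) = x
    · exact ⟨q ^ 2 - 1, Or.inr (Or.inr (Or.inl dvd_rfl)), fin _ fun x hx => eigMap_sq tw hq1 (hne x hx) (h2 x hx)⟩
    · push Not at h2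
      obtain ⟨x, hx, hxx⟩ := h2
      set y := eigMap tw q x with hy
      set z := eigMap tw q y with hz
      have hey : IsEig G y := hphi x hx
      have hez : IsEig G z := hphi y hey
      have hyx : y ≠ x := fun e => hxx (by rw [hz, e, ← hy, e])
      have hzy : z ≠ y := fun e => hyx (hinj e)
      have hset : ({x, y, z} : Finset K) = {a, b, c} := by
        refine Finset.eq_of_subset_of_card_le ?_ ?_
        · intro w hw
          simp only [Finset.mem_insert, Finset.mem_singleton] at hw ⊢
          rcases hw with rfl | rfl | rfl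
          · exact (hroots _).1 hx
          · exact (hroots _).1 hey
          · exact (hroots _).1 hez
        · refine (Finset.card_le_three).trans ?_
          rw [Finset.card_eq_three.2 ⟨x, y, z, hyx.symm, hxx.symm, hzy.symm, rfl⟩]
      have hprod : x * y * z = 1 := by
        have := congrArg (fun s : Finset K => ∏ w ∈ s, w) hset
        simp only [Finset.prod_insert, Finset.mem_insert, Finset.mem_singleton, not_or, hyx.symm, hxx.symm,
          hzy.symm, hab, hac, hbc, not_false_eq_true, and_self, Finset.prod_singleton] at this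
        rw [mul_assoc, this, ← mul_assoc, hd]
      set N := if tw then q ^ 2 - q + 1 else q ^ 2 + q + 1 with hN
      have hxN : x ^ N = 1 := by
        rw [hy, hz, hy] at hprod
        unfold eigMap at hprod
        rw [hN]
        cases tw
        · simp only [Bool.false_eq_true, if_false] at hprod ⊢
          rw [← hprod, ← pow_mul, sq, pow_succ, pow_add]
          ring
        · simp only [if_true, inv_pow, inv_inv] at hprod ⊢
          have hqq : q ≤ q ^ 2 := Nat.le_self_pow two_ne_zero q
          have : x ^ (q ^ 2 - q + 1) * x ^ q = x * (x ^ q) ^ q := by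
            rw [← pow_mul, ← pow_succ', ← pow_add, sq]
            congr 1
            rw [sq] at hqq
            omega
          refine mul_right_cancel₀ (pow_ne_zero q (hne x hx)) (this.trans ?_)
          rw [one_mul]
          calc x * (x ^ q) ^ q = x * (x ^ q)⁻¹ * (x ^ q) ^ q * x ^ q := by field_simp [hne x hx]
            _ = x ^ q := by rw [hprod, one_mul]
      refine ⟨N, ?_, fin N fun w hw => ?_⟩
      · rw [hN]; cases tw
        · exact Or.inl dvd_rfl
        · exact Or.inr (Or.inl dvd_rfl)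
      · have hmap : ∀ w : K, w ^ N = 1 → eigMap tw q w ^ N = 1 := fun w hw => by
          have e : (w ^ q) ^ N = 1 := by rw [← pow_mul, mul_comm, pow_mul, hw, one_pow]
          unfold eigMap; split_ifs <;> simp [inv_pow, e]
        have hw' : w ∈ ({a, b, c} : Finset K) := by simpa using (hroots w).1 hw
        rw [← hset] at hw'
        simp only [Finset.mem_insert, Finset.mem_singleton] at hw'
        rcases hw' with rfl | rfl | rfl
        · exact hxN
        · exact hmap x hxN
        · exact hmap _ (hmap x hxN)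
  · -- a repeated eigenvalue
    obtain ⟨r, s, hrs, hf', hroots'⟩ : ∃ r s : K, r * r * s = 1 ∧ G.charpoly = (X - C r) * (X - C r) * (X - C s) ∧
        ∀ x, IsEig G x ↔ x = r ∨ x = s := by
      rcases (by tauto : a = b ∨ a = c ∨ b = c) with h | h | h
      · exact ⟨a, c, by rw [h] at hd ⊢; exact hd.symm, by rw [hf, h], fun x => by rw [hroots, h]; tauto⟩
      · exact ⟨a, b, by rw [← h] at hd; rw [hd]; ring, by rw [hf, ← h]; ring, fun x => by rw [hroots, h]; tauto⟩
      · exact ⟨b, a, by rw [← h] at hd; rw [hd]; ring, by rw [hf, ← h]; ring, fun x => by rw [hroots, h]; tauto⟩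
    have hr : IsEig G r := (hroots' r).2 (Or.inl rfl)
    have hs : IsEig G s := (hroots' s).2 (Or.inr rfl)
    have hr0 := hne r hr
    have hs0 := hne s hs
    by_cases hrs' : r = s
    · subst hrs'
      have h3 : r ^ 3 = 1 := by rw [← hrs]; ring
      have hr1 : r ≠ 1 := fun e => h1 (e ▸ hr)
      have hp3 : p ≠ 3 := by
        intro e
        subst e
        exact hr1 (frobenius_inj K 3 (by simp [frobenius_def, h3]))
      have hdvd : G.charpoly ∣ (X ^ 3 - 1) ^ 3 := by
        rw [hf', pow_succ, pow_two (X ^ 3 - 1 : K[X])]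
        exact mul_dvd_mul (mul_dvd_mul (dvd_of_pow_eq_one h3) (dvd_of_pow_eq_one h3)) (dvd_of_pow_eq_one h3)
      by_cases hp2 : p = 2
      · refine ⟨12, Or.inr (Or.inr (Or.inr (Or.inr (Or.inr (Or.inl ⟨hp2, Or.inr dvd_rfl⟩))))), ?_⟩
        have := pow_eq_one_of_dvd (p := p) G (k := 2) (by rw [hp2]; norm_num) hdvd
        rw [hp2] at this
        simpa using this
      · have hp5 : 3 < p := by have := hp.two_le; omega
        have h3q : 3 ∣ q - 1 ∨ 3 ∣ q + 1 := by
          have : ¬ 3 ∣ q := fun h => hp3 ((Nat.prime_dvd_prime_iff_eq Nat.prime_three hp).1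
            (Nat.prime_three.dvd_of_dvd_pow (hq ▸ h))).symm
          omega
        refine ⟨3 * p, ?_, by simpa using pow_eq_one_of_dvd (p := p) G (k := 1) (by simp; omega) hdvd⟩
        rcases h3q with h | h
        · exact Or.inr (Or.inr (Or.inr (Or.inl (by rw [mul_comm]; exact Nat.mul_dvd_mul_left p h))))
        · exact Or.inr (Or.inr (Or.inr (Or.inr (Or.inl (by rw [mul_comm]; exact Nat.mul_dvd_mul_left p h)))))
    · have hfr : eigMap tw q r = r := by
        rcases (hroots' _).1 (hphi r hr) with h | h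
        · exact h
        · exfalso
          have hs' : eigMap tw q s = r := by
            rcases (hroots' _).1 (hphi s hs) with h' | h'
            · exact h'
            · exact absurd (hinj (h.trans h'.symm)) hrs'
          have e := congrArg (eigMap tw q) hrs
          rw [eigMap_mul, eigMap_mul, h, hs', show eigMap tw q (1 : K) = 1 by unfold eigMap; simp] at e
          have e2 : s * (r * r * s - s * s * r) = 0 := by rw [hrs, e]; ring
          have e3 : r * r * s - s * s * r = r * s * (r - s) := by ring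
          rw [e3] at e2
          rcases mul_eq_zero.1 e2 with h' | h'
          · exact hs0 h'
          · rcases mul_eq_zero.1 h' with h'' | h''
            · rcases mul_eq_zero.1 h'' with h3 | h3
              · exact hr0 h3
              · exact hs0 h3
            · exact hrs' (sub_eq_zero.1 h'')
      have hfs : eigMap tw q s = s := by
        rcases (hroots' _).1 (hphi s hs) with h | h
        · exact absurd (hinj (h.trans hfr.symm)) (Ne.symm hrs')
        · exact h
      set N := if tw then q + 1 else q - 1 with hN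
      have hdvd : G.charpoly ∣ (X ^ N - 1) ^ 2 := by
        rw [hf', mul_assoc, sq]
        refine mul_dvd_mul (dvd_of_pow_eq_one (eigMap_fix tw hq1 hr0 hfr)) ?_
        exact (isCoprime_X_sub_C_of_isUnit_sub (sub_ne_zero.2 hrs').isUnit).mul_dvd
          (dvd_of_pow_eq_one (eigMap_fix tw hq1 hr0 hfr)) (dvd_of_pow_eq_one (eigMap_fix tw hq1 hs0 hfs))
      refine ⟨N * p, ?_, by simpa using pow_eq_one_of_dvd (p := p) G (k := 1) (by simpa using hp.two_le) hdvd⟩
      rw [hN, mul_comm]
      cases tw
      · exact Or.inr (Or.inr (Or.inr (Or.inl dvd_rfl)))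
      · exact Or.inr (Or.inr (Or.inr (Or.inr (Or.inl dvd_rfl))))

end CfsgLib.G2Octonion
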