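import Cfsg.Agent.G2Octonion.Iso
import Cfsg.Agent.NormalCover.GTwoMoves

/-!
Change of field, transitivity on idempotents, and the automorphism exchanging the two idempotents.
-/

set_option autoImplicit false
set_option linter.style.haveILetI false

namespace CfsgLib.G2Octonion

open Cfsg.Lie Matrix CfsgLib.SylowTwoAb.Oct

noncomputable section

variable {F : Type*} [Field F] {K : Type*} [Field K]

theorem app_eq_mat (g : G2 F) (x : Fin 8 → F) : app g x = mat g *ᵥ x := rfl

theorem xAut_map (ι : F →+* K) (r : Fin 12) (t : F) : (xAut r t).map ι = xAut r (ι t) := by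
  ext i j
  simp only [xAut, nR, Matrix.map_apply, Matrix.add_apply, Matrix.smul_apply, smul_eq_mul, map_add, map_mul,
    map_pow, eq_intCast, map_intCast]
  rw [Matrix.one_apply, Matrix.one_apply]
  split_ifs <;> simp

theorem map_mem_G2 [Fintype F] (ι : F →+* K) (g : G2 F) :
    Matrix.GeneralLinearGroup.map ι (g : GL (Fin 8) F) ∈ G2 K := by
  have hg : g ∈ Subgroup.closure (Set.range fun z : Fin 12 × F => xG z.1 z.2) := by
    rw [closure_xG]; trivial
  induction hg using Subgroup.closure_induction with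
  | one => rw [Subgroup.coe_one, map_one]; exact one_mem _
  | mul x y _ _ hx hy => rw [Subgroup.coe_mul, map_mul]; exact mul_mem hx hy
  | inv x _ hx => rw [Subgroup.coe_inv, map_inv]; exact inv_mem hx
  | mem x hx =>
    obtain ⟨⟨r, t⟩, rfl⟩ := hx
    have e : Matrix.GeneralLinearGroup.map ι (xG r t : GL (Fin 8) F) = (xG r (ι t) : GL (Fin 8) K) :=
      Units.ext (xAut_map ι r t)
    rw [e]
    exact SetLike.coe_mem _

/-- Extension of scalars of an automorphism. -/
def mapG [Fintype F] (ι : F →+* K) : G2 F →* G2 K :=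
  ((Matrix.GeneralLinearGroup.map (n := Fin 8) ι).comp (G2 F).subtype).codRestrict (G2 K) fun g => map_mem_G2 ι g

theorem mat_mapG [Fintype F] (ι : F →+* K) (g : G2 F) : mat (mapG ι g) = (mat g).map ι := rfl

theorem mapG_injective [Fintype F] (ι : F →+* K) : Function.Injective (mapG ι) := fun g h e => by
  refine Subtype.ext (Units.ext (Matrix.ext fun i j => ι.injective ?_))
  exact congrFun (congrFun (congrArg mat e) i) j

theorem app_mapG [Fintype F] (ι : F →+* K) (g : G2 F) (x : Fin 8 → F) :
    app (mapG ι g) (ι ∘ x) = ι ∘ app g x := by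
  funext i
  exact (RingHom.map_mulVec ι (mat g) x i).symm

theorem map_zornMul (ι : F →+* K) (x y : Fin 8 → F) : ι ∘ zornMul x y = zornMul (ι ∘ x) (ι ∘ y) := by
  funext i
  fin_cases i <;> simp [zornMul, dot3, cross3]

theorem comp_e1 (ι : F →+* K) : ι ∘ e1 F = e1 K := by
  funext i
  fin_cases i <;> simp [e1]

theorem comp_one8 (ι : F →+* K) : ι ∘ one8 F = one8 K := by
  funext i
  fin_cases i <;> simp [one8]

theorem autMap_mem (σ : K ≃+* K) (g : G2 K) :
    Matrix.GeneralLinearGroup.map (σ : K →+* K) (g : GL (Fin 8) K) ∈ G2 K := by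
  intro x y
  show (mat g).map σ *ᵥ zornMul x y = zornMul ((mat g).map σ *ᵥ x) ((mat g).map σ *ᵥ y)
  have hx : x = (σ : K →+* K) ∘ (σ.symm ∘ x) := by funext i; simp
  have hy : y = (σ : K →+* K) ∘ (σ.symm ∘ y) := by funext i; simp
  have h : ∀ z : Fin 8 → K, (mat g).map σ *ᵥ ((σ : K →+* K) ∘ z) = (σ : K →+* K) ∘ (mat g *ᵥ z) := fun z =>
    funext fun i => (RingHom.map_mulVec (σ : K →+* K) (mat g) z i).symm
  rw [hx, hy, ← map_zornMul, h, h, h, ← map_zornMul]
  exact congrArg _ (g.2 _ _)

/-- A field automorphism acting on automorphisms. -/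
def autG (σ : K ≃+* K) : G2 K →* G2 K :=
  ((Matrix.GeneralLinearGroup.map (n := Fin 8) (σ : K →+* K)).comp (G2 K).subtype).codRestrict (G2 K)
    fun g => autMap_mem σ g

theorem app_autG (σ : K ≃+* K) (g : G2 K) (x : Fin 8 → K) :
    app (autG σ g) ((σ : K →+* K) ∘ x) = (σ : K →+* K) ∘ app g x := by
  funext i
  exact (RingHom.map_mulVec (σ : K →+* K) (mat g) x i).symm

theorem zA_comp (ι : F →+* K) (x : Fin 8 → F) : zA K (ι ∘ x) = ι ∘ zA F x := by
  funext i
  fin_cases i <;> simp [zA]

theorem inA_comp (ι : F →+* K) (u : Fin 3 → F) : ι ∘ inA u = inA (ι ∘ u) := by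
  funext i
  fin_cases i <;> simp [inA]

theorem partA_autG (σ : K ≃+* K) (g : G2 K) : partA (autG σ g) = (partA g).map σ := by
  ext i j
  have h : (Pi.single j 1 : Fin 3 → K) = (σ : K →+* K) ∘ Pi.single j 1 := by
    funext l
    simp [Pi.single_apply, apply_ite]
  show zA K (app (autG σ g) (inA (Pi.single j 1))) i = σ (zA K (app g (inA (Pi.single j 1))) i)
  conv_lhs => rw [h, ← inA_comp, app_autG, zA_comp]
  rfl

/-- The coordinate exchange of the two idempotents. -/
def tauMap (F : Type*) [Field F] : (Fin 8 → F) →ₗ[F] (Fin 8 → F) where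
  toFun x := ![x 7, -x 4, -x 5, -x 6, -x 1, -x 2, -x 3, x 0]
  map_add' x y := by funext i; fin_cases i <;> simp <;> ring
  map_smul' a x := by funext i; fin_cases i <;> simp

theorem exists_tau (F : Type*) [Field F] : ∃ g : G2 F, ∀ x, app g x = tauMap F x := by
  refine NormalCover.exists_aut (tauMap F) (tauMap F) (fun x => ?_) (fun x y => ?_)
  · funext i; fin_cases i <;> simp [tauMap]
  · funext i; fin_cases i <;> simp [tauMap, zornMul, dot3, cross3] <;> ring

/-- The automorphism exchanging the two idempotents. -/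
def tau (F : Type*) [Field F] : G2 F := (exists_tau F).choose

theorem app_tau (x : Fin 8 → F) : app (tau F) x = tauMap F x := (exists_tau F).choose_spec x

theorem app_tau_e1 : app (tau F) (e1 F) = one8 F - e1 F := by
  rw [app_tau]
  funext i
  fin_cases i <;> simp [tauMap, e1, one8]

theorem app_tau_e2 : app (tau F) (one8 F - e1 F) = e1 F := by
  rw [app_tau]
  funext i
  fin_cases i <;> simp [tauMap, e1, one8]

theorem tau_mul_tau : tau F * tau F = 1 := ext_app fun x => by
  rw [app_mul_group, app_tau, app_tau, app_one_group]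
  funext i
  fin_cases i <;> simp [tauMap]

theorem app_e2_of_fix {g : G2 F} (hg : app g (e1 F) = e1 F) :
    app g (one8 F - e1 F) = one8 F - e1 F := by
  rw [sub_eq_add_neg, app_add', app_one, ← neg_one_smul F (e1 F), app_smul', hg]

theorem conj_tau_fix {g : G2 F} (hg : app g (e1 F) = e1 F) : app (tau F * g * tau F) (e1 F) = e1 F := by
  rw [app_mul_group, app_mul_group, app_tau_e1, app_e2_of_fix hg, app_tau_e2]

theorem partA_conj_tau {g : G2 F} (hg : app g (e1 F) = e1 F) : partA (tau F * g * tau F) = partB g := by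
  refine Matrix.toLin'.injective (LinearMap.ext fun u => ?_)
  simp only [Matrix.toLin'_apply]
  rw [← zA_app_inA, app_mul_group, app_mul_group, app_tau (inA u)]
  have h1 : tauMap F (inA u) = inB (-u) := by funext i; fin_cases i <;> simp [tauMap, inA, inB]
  rw [h1, app_inB hg, app_tau, Matrix.mulVec_neg]
  funext i
  fin_cases i <;> simp [tauMap, inB, zA]

/-- The idempotents other than zero and one form one orbit. -/
theorem exists_move {z : Fin 8 → F} (ht : tr z = 1) (hn : nQ F z = 0) : ∃ h : G2 F, app h z = e1 F := by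
  have key : ∀ {y : Fin 8 → F}, tr y = 1 → nQ F y = 0 → NormalCover.Moves y (NormalCover.zStd 0) := by
    intro y hty hny
    refine NormalCover.moves_std (zero_ne_one (α := F)) hty hny ?_
    rintro ⟨h07, h1, h2, h3, h4, h5, h6⟩
    rw [nQ_apply, h1, h2, h3, ← h07] at hny
    have h0 : y 0 = 0 := by simpa using hny
    rw [tr, ← h07, h0] at hty
    simp at hty
  obtain ⟨a, ha⟩ := key ht hn
  obtain ⟨b, hb⟩ := key (y := e1 F) (by simp [tr, e1]) (by simp [nQ_apply, e1])
  exact ⟨b⁻¹ * a, by rw [app_mul_group, ha, ← hb, app_inv_app]⟩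

end

end CfsgLib.G2Octonion
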