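import Cfsg.Agent.G2Octonion.Nilp
import Cfsg.Agent.G2Octonion.Three
import Cfsg.Agent.G2Octonion.Transfer

/-!
Fixed spaces of semisimple automorphisms of the octonions, and the order of a commuting unipotent one.
-/

set_option autoImplicit false
set_option linter.style.haveILetI false

namespace CfsgLib.G2Octonion

open Cfsg.Lie Matrix CfsgLib.SylowTwoAb.Oct
open Polynomial (X C monic_X_sub_C X_sub_C_ne_zero isCoprime_X_sub_C_of_isUnit_sub natDegree_mul dvd_iff_isRoot IsRoot)

noncomputable section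

variable {K : Type*} [Field K]

theorem eq_zero_of_pol_all {u : Fin 8 → K} (h : ∀ z, pol u z = 0) : u = 0 := by
  funext i
  fin_cases i
  · simpa [pol] using h (Pi.single 7 1)
  · simpa [pol] using h (Pi.single 4 1)
  · simpa [pol] using h (Pi.single 5 1)
  · simpa [pol] using h (Pi.single 6 1)
  · simpa [pol] using h (Pi.single 1 1)
  · simpa [pol] using h (Pi.single 2 1)
  · simpa [pol] using h (Pi.single 3 1)
  · simpa [pol] using h (Pi.single 0 1)

theorem pol_add_right (x y z : Fin 8 → K) : pol x (y + z) = pol x y + pol x z := by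
  rw [pol_comm, pol_add_left, pol_comm y, pol_comm z]

theorem pol_sub_left (x y z : Fin 8 → K) : pol (x - y) z = pol x z - pol y z := by
  rw [sub_eq_add_neg, pol_add_left, ← neg_one_smul K y, pol_smul_left]
  ring

theorem pol_sub_right (x y z : Fin 8 → K) : pol x (y - z) = pol x y - pol x z := by
  rw [pol_comm, pol_sub_left, pol_comm y, pol_comm z]

theorem sub_zornMul (x y z : Fin 8 → K) : zornMul (x - y) z = zornMul x z - zornMul y z := by
  funext i
  fin_cases i <;> simp [zornMul, dot3, cross3] <;> ring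

theorem zornMul_sub (x y z : Fin 8 → K) : zornMul x (y - z) = zornMul x y - zornMul x z := by
  funext i
  fin_cases i <;> simp [zornMul, dot3, cross3] <;> ring

/-- The fixed space of an automorphism. -/
def fixSp (s : G2 K) : Submodule K (Fin 8 → K) := LinearMap.ker (Matrix.toLin' (mat s - 1))

/-- The moved space of an automorphism. -/
def movSp (s : G2 K) : Submodule K (Fin 8 → K) := LinearMap.range (Matrix.toLin' (mat s - 1))

theorem mem_fixSp {s : G2 K} {x : Fin 8 → K} : x ∈ fixSp s ↔ app s x = x := by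
  rw [fixSp, LinearMap.mem_ker, Matrix.toLin'_apply, Matrix.sub_mulVec, Matrix.one_mulVec, sub_eq_zero]

theorem mem_movSp {s : G2 K} {x : Fin 8 → K} : x ∈ movSp s ↔ ∃ y, app s y - y = x := by
  rw [movSp, LinearMap.mem_range]
  simp only [Matrix.toLin'_apply, Matrix.sub_mulVec, Matrix.one_mulVec]

theorem pol_fix_mov {s : G2 K} {x y : Fin 8 → K} (hx : x ∈ fixSp s) (hy : y ∈ movSp s) : pol x y = 0 := by
  obtain ⟨w, rfl⟩ := mem_movSp.1 hy
  rw [pol_sub_right, sub_eq_zero]
  conv_lhs => rw [← mem_fixSp.1 hx]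
  exact app_pol' s x w

theorem app_pow_of_sub {s : G2 K} {x y : Fin 8 → K} (hy : app s y - y = x) (hx : app s x = x) (i : ℕ) :
    app (s ^ i) y = y + (i : K) • x := by
  induction i with
  | zero => simp [app_one_group]
  | succ i ih =>
    rw [pow_succ', app_mul_group, ih, app_add', app_smul', hx, sub_eq_iff_eq_add.1 hy]
    push_cast
    module

section semisimple

variable {s : G2 K} {m : ℕ} (hs : s ^ m = 1) (hm : (m : K) ≠ 0)

include hs hm

theorem fix_inf_mov : fixSp s ⊓ movSp s = ⊥ := by
  rw [eq_bot_iff]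
  rintro x ⟨hx, hx'⟩
  obtain ⟨y, hy⟩ := mem_movSp.1 hx'
  have h := app_pow_of_sub hy (mem_fixSp.1 hx) m
  rw [hs, app_one_group, left_eq_add, smul_eq_zero] at h
  exact h.resolve_left hm

theorem fix_sup_mov : fixSp s ⊔ movSp s = ⊤ := by
  refine Submodule.eq_top_of_finrank_eq ?_
  have h := Submodule.finrank_sup_add_finrank_inf_eq (fixSp s) (movSp s)
  rw [fix_inf_mov hs hm, finrank_bot, add_zero] at h
  rw [h]
  have h' := (Matrix.toLin' (mat s - 1)).finrank_range_add_finrank_ker
  unfold fixSp movSp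
  rw [Nat.add_comm]
  exact h'

theorem nondeg_fix {x : Fin 8 → K} (hx : x ∈ fixSp s) (h : ∀ y ∈ fixSp s, pol x y = 0) : x = 0 := by
  refine eq_zero_of_pol_all fun z => ?_
  have hz : z ∈ fixSp s ⊔ movSp s := by rw [fix_sup_mov hs hm]; trivial
  obtain ⟨a, ha, b, hb, rfl⟩ := Submodule.mem_sup.1 hz
  rw [pol_add_right, h a ha, pol_fix_mov hx hb, add_zero]

theorem nondeg_mov {x : Fin 8 → K} (hx : x ∈ movSp s) (h : ∀ y ∈ movSp s, pol x y = 0) : x = 0 := by
  refine eq_zero_of_pol_all fun z => ?_
  have hz : z ∈ fixSp s ⊔ movSp s := by rw [fix_sup_mov hs hm]; trivial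
  obtain ⟨a, ha, b, hb, rfl⟩ := Submodule.mem_sup.1 hz
  rw [pol_add_right, h b hb, pol_comm, pol_fix_mov ha hx, add_zero]

/-- An automorphism fixing the moved space of a semisimple automorphism is trivial. -/
theorem eq_one_of_fix_mov (hne : s ≠ 1) {v : G2 K} (hv : ∀ x ∈ movSp s, app v x = x) : v = 1 := by
  obtain ⟨x, hx, hxn⟩ : ∃ x ∈ movSp s, nQ K x ≠ 0 := by
    by_contra hcon
    push Not at hcon
    refine hne (ext_app fun z => ?_)
    rw [app_one_group, ← sub_eq_zero]
    refine nondeg_mov hs hm (mem_movSp.2 ⟨z, rfl⟩) fun y hy => ?_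
    have h := nQ_add' (app s z - z) y
    rw [hcon _ (Submodule.add_mem _ (mem_movSp.2 ⟨z, rfl⟩) hy), hcon _ (mem_movSp.2 ⟨z, rfl⟩), hcon _ hy] at h
    simpa using h.symm
  have hfix : ∀ y ∈ fixSp s, app v y = y := by
    intro y hy
    obtain ⟨x', hx'⟩ := mem_movSp.1 hx
    have hxy : zornMul x y ∈ movSp s := by
      refine mem_movSp.2 ⟨zornMul x' y, ?_⟩
      rw [app_mul, mem_fixSp.1 hy, ← sub_zornMul, hx']
    have h := app_mul v x y
    rw [hv x hx, hv _ hxy] at h
    have h0 : zornMul x (app v y - y) = 0 := by rw [zornMul_sub, ← h, sub_self]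
    refine sub_eq_zero.1 (eq_zero_of_pol_all fun z => ?_)
    have h1 := pol_mul_left x (app v y - y) z
    rw [h0] at h1
    have h2 : pol (0 : Fin 8 → K) (zornMul x z) = 0 := by simp [pol]
    rw [h2, eq_comm, mul_eq_zero] at h1
    exact h1.resolve_left hxn
  refine ext_app fun z => ?_
  have hz : z ∈ fixSp s ⊔ movSp s := by rw [fix_sup_mov hs hm]; trivial
  obtain ⟨a, ha, b, hb, rfl⟩ := Submodule.mem_sup.1 hz
  rw [app_one_group, app_add', hfix a ha, hv b hb]

end semisimple

theorem isEig_iff_exists {G : Matrix (Fin 3) (Fin 3) K} {x : K} :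
    IsEig G x ↔ ∃ v : Fin 3 → K, v ≠ 0 ∧ G *ᵥ v = x • v := by
  rw [IsEig, ← Matrix.exists_mulVec_eq_zero_iff]
  refine exists_congr fun v => and_congr_right fun _ => ?_
  rw [Matrix.sub_mulVec, sub_eq_zero, Matrix.scalar_apply, eq_comm]
  constructor <;> intro h <;> rw [h] <;> ext i <;> simp [Matrix.mulVec_diagonal]

theorem isEig_conj {W W' G : Matrix (Fin 3) (Fin 3) K} (h : W * W' = 1) (x : K) :
    IsEig (W * G * W') x ↔ IsEig G x := by
  have e : Matrix.scalar (Fin 3) x - W * G * W' = W * (Matrix.scalar (Fin 3) x - G) * W' := by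
    rw [Matrix.mul_sub, Matrix.sub_mul, ← (Matrix.scalar_commute x (mul_comm x) W).eq, Matrix.mul_assoc _ W W', h,
      Matrix.mul_one]
  have hd : W.det * W'.det = 1 := by rw [← Matrix.det_mul, h, Matrix.det_one]
  rw [IsEig, IsEig, e, Matrix.det_mul, Matrix.det_mul, mul_right_comm, hd, one_mul]

theorem charpoly_eq_of_eig {M : Matrix (Fin 3) (Fin 3) K} {x y z : K} (hxy : x ≠ y) (hxz : x ≠ z) (hyz : y ≠ z)
    (hx : IsEig M x) (hy : IsEig M y) (hz : IsEig M z) :
    M.charpoly = (Polynomial.X - Polynomial.C x) * (Polynomial.X - Polynomial.C y) *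
      (Polynomial.X - Polynomial.C z) := by
  have hr : ∀ {t : K}, IsEig M t → X - C t ∣ M.charpoly := fun {t} ht => by
    rw [dvd_iff_isRoot, IsRoot, Matrix.eval_charpoly]; exact ht
  refine Polynomial.eq_of_monic_of_dvd_of_natDegree_le (((monic_X_sub_C x).mul (monic_X_sub_C y)).mul
    (monic_X_sub_C z)) M.charpoly_monic ?_ ?_
  · exact ((isCoprime_X_sub_C_of_isUnit_sub (sub_ne_zero.2 hxz).isUnit).mul_left
      (isCoprime_X_sub_C_of_isUnit_sub (sub_ne_zero.2 hyz).isUnit)).mul_dvd
        ((isCoprime_X_sub_C_of_isUnit_sub (sub_ne_zero.2 hxy).isUnit).mul_dvd (hr hx) (hr hy)) (hr hz)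
  · rw [M.charpoly_natDegree_eq_dim, natDegree_mul (mul_ne_zero (X_sub_C_ne_zero x) (X_sub_C_ne_zero y))
      (X_sub_C_ne_zero z), natDegree_mul (X_sub_C_ne_zero x) (X_sub_C_ne_zero y)]
    simp

variable {g : G2 K}

theorem isEig_partB (hg : app g (e1 K) = e1 K) {x : K} :
    IsEig (partB g) x ↔ x ≠ 0 ∧ IsEig (partA g) x⁻¹ := by
  have h := partA_transpose_mul_partB hg
  have hA := det_partA hg
  by_cases hx : x = 0
  · subst hx
    simp only [ne_eq, not_true_eq_false, false_and, iff_false]
    intro h0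
    have hd := congrArg Matrix.det h
    rw [Matrix.det_mul, Matrix.det_transpose, hA, one_mul, Matrix.det_one] at hd
    rw [IsEig, map_zero, zero_sub, Matrix.det_neg, hd] at h0
    simp at h0
  · rw [and_iff_right hx, IsEig, IsEig]
    have e : (partA g)ᵀ * (Matrix.scalar (Fin 3) x - partB g) =
        (-x) • (Matrix.scalar (Fin 3) x⁻¹ - partA g)ᵀ := by
      rw [Matrix.mul_sub, h, Matrix.transpose_sub]
      simp only [Matrix.scalar_apply, Matrix.diagonal_transpose]
      ext i j
      simp [Matrix.mul_diagonal, Matrix.one_apply, Matrix.diagonal_apply]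
      split_ifs with hij <;> field_simp <;> ring
    have hd := congrArg Matrix.det e
    rw [Matrix.det_mul, Matrix.det_transpose, hA, one_mul, Matrix.det_smul, Matrix.det_transpose] at hd
    rw [hd]
    simp [hx]

theorem app_fix_iff (hg : app g (e1 K) = e1 K) {x : Fin 8 → K} {c : K} :
    app g x = c • x ↔ (c - 1) * x 0 = 0 ∧ (c - 1) * x 7 = 0 ∧ partA g *ᵥ zA K x = c • zA K x ∧
      partB g *ᵥ zB K x = c • zB K x := by
  rw [app_of_fix hg]
  constructor
  · intro h
    refine ⟨?_, ?_, funext fun i => ?_, funext fun i => ?_⟩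
    · have := congrFun h 0; simp [e1, one8, inA, inB] at this; linear_combination -this
    · have := congrFun h 7; simp [e1, one8, inA, inB] at this; linear_combination -this
    · fin_cases i
      · simpa [e1, one8, inA, inB] using congrFun h 1
      · simpa [e1, one8, inA, inB] using congrFun h 2
      · simpa [e1, one8, inA, inB] using congrFun h 3
    · fin_cases i
      · simpa [e1, one8, inA, inB] using congrFun h 4
      · simpa [e1, one8, inA, inB] using congrFun h 5
      · simpa [e1, one8, inA, inB] using congrFun h 6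
  · rintro ⟨h0, h7, hA, hB⟩
    rw [hA, hB]
    funext i
    fin_cases i <;> simp [e1, one8, inA, inB, zA, zB]
    · linear_combination -h0
    · linear_combination -h7

theorem finrank_fix_ge (hg : app g (e1 K) = e1 K) (h1 : IsEig (partA g) 1) :
    4 ≤ Module.finrank K (fixSp g) := by
  obtain ⟨v, hv0, hv⟩ := isEig_iff_exists.1 h1
  obtain ⟨w, hw0, hw⟩ := isEig_iff_exists.1 ((isEig_partB hg (x := 1)).2 ⟨one_ne_zero, by rwa [inv_one]⟩)
  rw [one_smul] at hv hw
  have hmem : ∀ i : Fin 4, ![e1 K, one8 K - e1 K, inA v, inB w] i ∈ fixSp g := by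
    intro i
    rw [mem_fixSp]
    fin_cases i
    · exact hg
    · exact app_e2_of_fix hg
    · show app g (inA v) = inA v
      rw [app_inA hg, hv]
    · show app g (inB w) = inB w
      rw [app_inB hg, hw]
  let b : Fin 4 → fixSp g := fun i => ⟨_, hmem i⟩
  have hli : LinearIndependent K b := by
    rw [Fintype.linearIndependent_iff]
    intro c hc
    have hc' := congrArg Subtype.val hc
    simp only [b, Fin.sum_univ_four, Submodule.coe_add, Submodule.coe_smul, Submodule.coe_zero] at hc'
    have h0 : c 0 = 0 := by have := congrFun hc' 0; simpa [e1, one8, inA, inB] using this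
    have h1 : c 1 = 0 := by have := congrFun hc' 7; simpa [e1, one8, inA, inB] using this
    have h2 : c 2 = 0 := by
      obtain ⟨i, hi⟩ := Function.ne_iff.1 hv0
      fin_cases i
      · have := congrFun hc' 1; simp [e1, one8, inA, inB] at this hi; exact this.resolve_right hi
      · have := congrFun hc' 2; simp [e1, one8, inA, inB] at this hi; exact this.resolve_right hi
      · have := congrFun hc' 3; simp [e1, one8, inA, inB] at this hi; exact this.resolve_right hi
    have h3 : c 3 = 0 := by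
      obtain ⟨i, hi⟩ := Function.ne_iff.1 hw0
      fin_cases i
      · have := congrFun hc' 4; simp [e1, one8, inA, inB] at this hi; exact this.resolve_right hi
      · have := congrFun hc' 5; simp [e1, one8, inA, inB] at this hi; exact this.resolve_right hi
      · have := congrFun hc' 6; simp [e1, one8, inA, inB] at this hi; exact this.resolve_right hi
    intro i
    fin_cases i <;> assumption
  simpa using hli.fintype_card_le_finrank

theorem finrank_eigen_le {M : Matrix (Fin 3) (Fin 3) K} {x y z : K} (hxy : x ≠ y) (hxz : x ≠ z) (hyz : y ≠ z)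
    (hy : IsEig M y) (hz : IsEig M z) :
    Module.finrank K (LinearMap.ker (Matrix.toLin' (M - Matrix.scalar (Fin 3) x))) ≤ 1 := by
  obtain ⟨v, hv0, hv⟩ := isEig_iff_exists.1 hy
  obtain ⟨w, hw0, hw⟩ := isEig_iff_exists.1 hz
  have hker : ∀ u, u ∈ LinearMap.ker (Matrix.toLin' (M - Matrix.scalar (Fin 3) x)) ↔ M *ᵥ u = x • u := fun u => by
    rw [LinearMap.mem_ker, Matrix.toLin'_apply, Matrix.sub_mulVec, sub_eq_zero, Matrix.scalar_apply]
    constructor <;> intro h <;> rw [h] <;> ext i <;> simp [Matrix.mulVec_diagonal]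
  set E := LinearMap.ker (Matrix.toLin' (M - Matrix.scalar (Fin 3) x))
  set S := Submodule.span K (Set.range ![v, w]) with hS
  have hli : LinearIndependent K ![v, w] := by
    rw [LinearIndependent.pair_iff]
    intro a b hab
    have e := congrArg (M *ᵥ ·) hab
    simp only [Matrix.mulVec_add, Matrix.mulVec_smul, hv, hw, Matrix.mulVec_zero] at e
    have ha : (a * (y - z)) • v = 0 := by linear_combination (norm := module) e - z • hab
    have ha0 : a = 0 := by
      rcases smul_eq_zero.1 ha with h | h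
      · exact (mul_eq_zero.1 h).resolve_right (sub_ne_zero.2 hyz)
      · exact absurd h hv0
    rw [ha0, zero_smul, zero_add] at hab
    exact ⟨ha0, (smul_eq_zero.1 hab).resolve_right hw0⟩
  have hinf : E ⊓ S = ⊥ := by
    rw [eq_bot_iff]
    rintro u ⟨hu, hu'⟩
    obtain ⟨c, hc⟩ := (Submodule.mem_span_range_iff_exists_fun K).1 hu'
    simp only [Fin.sum_univ_two, Matrix.cons_val_zero, Matrix.cons_val_one] at hc
    have e := (hker u).1 hu
    rw [← hc, Matrix.mulVec_add, Matrix.mulVec_smul, Matrix.mulVec_smul, hv, hw] at e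
    have hpair := LinearIndependent.pair_iff.1 hli (c 0 * (y - x)) (c 1 * (z - x))
      (by linear_combination (norm := module) e)
    obtain ⟨h0, h1⟩ := hpair
    rw [← hc, (mul_eq_zero.1 h0).resolve_right (sub_ne_zero.2 hxy.symm),
      (mul_eq_zero.1 h1).resolve_right (sub_ne_zero.2 hxz.symm)]
    simp
  have hS2 : Module.finrank K S = 2 := by rw [hS, finrank_span_eq_card hli, Fintype.card_fin]
  have h := Submodule.finrank_sup_add_finrank_inf_eq E S
  rw [hinf, finrank_bot, add_zero, hS2] at h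
  have := Submodule.finrank_le (E ⊔ S)
  rw [Module.finrank_fin_fun] at this
  omega

variable {p : ℕ} [Fact p.Prime] [CharP K p]

theorem mat_pow (g : G2 K) (n : ℕ) : mat (g ^ n) = mat g ^ n := by simp [mat]

theorem mov_stable {s u : G2 K} (h : Commute u s) : ∀ w ∈ movSp s, app u w ∈ movSp s := by
  intro w hw
  obtain ⟨y, rfl⟩ := mem_movSp.1 hw
  refine mem_movSp.2 ⟨app u y, ?_⟩
  rw [← app_mul_group, ← h.eq, app_mul_group, sub_eq_add_neg (app s y), app_add', ← neg_one_smul K y, app_smul',
    neg_one_smul, ← sub_eq_add_neg]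

omit [Fact p.Prime] [CharP K p] in
/-- The quadratic factor kills the moved space. -/
theorem quad_kill {s : G2 K} {m : ℕ} (hs : s ^ m = 1) (hm : (m : K) ≠ 0) (hfix : app s (e1 K) = e1 K) {l l' : K}
    (hll : l * l' = 1) (hl : l ≠ 1) (hl' : l' ≠ 1) (hne : l ≠ l')
    (hA : ∀ x, x = 1 ∨ x = l ∨ x = l' → IsEig (partA s) x) (hB : ∀ x, x = 1 ∨ x = l ∨ x = l' → IsEig (partB s) x) :
    ∀ z ∈ movSp s, app s (app s z) - (l + l') • app s z + z = 0 := by
  have hf : ∀ M : Matrix (Fin 3) (Fin 3) K, (∀ x, x = 1 ∨ x = l ∨ x = l' → IsEig M x) → ∀ v,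
      M *ᵥ (M *ᵥ (M *ᵥ v) - (l + l') • (M *ᵥ v) + v) = M *ᵥ (M *ᵥ v) - (l + l') • (M *ᵥ v) + v := by
    intro M hM v
    have hch' := charpoly_eq_of_eig hl.symm hl'.symm hne (hM 1 (Or.inl rfl)) (hM l (Or.inr (Or.inl rfl)))
      (hM l' (Or.inr (Or.inr rfl)))
    have e := M.aeval_self_charpoly
    rw [hch'] at e
    simp only [map_mul, map_sub, Polynomial.aeval_X, Polynomial.aeval_C, map_one] at e
    have e' := congrArg (fun N : Matrix (Fin 3) (Fin 3) K => N *ᵥ v) e
    simp only [← Matrix.mulVec_mulVec, Matrix.sub_mulVec, Matrix.one_mulVec, Algebra.algebraMap_eq_smul_one,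
      Matrix.smul_mulVec, Matrix.mulVec_sub, Matrix.mulVec_smul, Matrix.zero_mulVec] at e'
    simp only [Matrix.mulVec_add, Matrix.mulVec_sub, Matrix.mulVec_smul]
    linear_combination (norm := module) e' - hll • (M *ᵥ v - v)
  intro z hz
  set z' := app s (app s z) - (l + l') • app s z + z with hz'
  have hzfix : z' ∈ fixSp s := by
    rw [mem_fixSp]
    conv_rhs => rw [← one_smul K z']
    rw [app_fix_iff hfix]
    refine ⟨by simp, by simp, ?_, ?_⟩
    · rw [one_smul]
      have : zA K z' = partA s *ᵥ (partA s *ᵥ zA K z) - (l + l') • (partA s *ᵥ zA K z) + zA K z := by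
        have h1 : ∀ y, zA K (app s y) = partA s *ᵥ zA K y := fun y => by
          rw [app_of_fix hfix]; funext i; fin_cases i <;> simp [zA, e1, one8, inA, inB]
        rw [← h1, ← h1]
        funext i; fin_cases i <;> simp [hz', zA]
      rw [this, hf _ hA]
    · rw [one_smul]
      have : zB K z' = partB s *ᵥ (partB s *ᵥ zB K z) - (l + l') • (partB s *ᵥ zB K z) + zB K z := by
        have h1 : ∀ y, zB K (app s y) = partB s *ᵥ zB K y := fun y => by
          rw [app_of_fix hfix]; funext i; fin_cases i <;> simp [zB, e1, one8, inA, inB]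
        rw [← h1, ← h1]
        funext i; fin_cases i <;> simp [hz', zB]
      rw [this, hf _ hB]
  have hzmov : z' ∈ movSp s := by
    have hs' : ∀ x ∈ movSp s, app s x ∈ movSp s := mov_stable (Commute.refl s)
    exact Submodule.add_mem _ (Submodule.sub_mem _ (hs' _ (hs' z hz)) (Submodule.smul_mem _ _ (hs' z hz))) hz
  exact (Submodule.eq_bot_iff _).1 (fix_inf_mov hs hm) z' ⟨hzfix, hzmov⟩

/-- An eigenvector space of `s` for a simple eigenvalue. -/
def eigSp (s : G2 K) (c : K) : Submodule K (Fin 8 → K) :=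
  LinearMap.ker (Matrix.toLin' (mat s) - c • LinearMap.id)

omit [Fact p.Prime] [CharP K p] in
theorem mem_eigSp {s : G2 K} {c : K} {y : Fin 8 → K} : y ∈ eigSp s c ↔ app s y = c • y := by
  simp [eigSp, sub_eq_zero, app]

omit [Fact p.Prime] [CharP K p] in
theorem finrank_eigSp_le {s : G2 K} (hfix : app s (e1 K) = e1 K) {c c' : K} (hc : c ≠ 1) (hcc : c ≠ c') (hc' : c' ≠ 1)
    (hA : IsEig (partA s) 1 ∧ IsEig (partA s) c') (hB : IsEig (partB s) 1 ∧ IsEig (partB s) c') :
    Module.finrank K (eigSp s c) ≤ 2 := by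
  have hA' := finrank_eigen_le hc hcc hc'.symm hA.1 hA.2
  have hB' := finrank_eigen_le hc hcc hc'.symm hB.1 hB.2
  have hmA : ∀ y : eigSp s c, zA K y.1 ∈ LinearMap.ker (Matrix.toLin' (partA s - Matrix.scalar (Fin 3) c)) := fun y => by
    have := ((app_fix_iff hfix).1 (mem_eigSp.1 y.2)).2.2.1
    rw [LinearMap.mem_ker, Matrix.toLin'_apply, Matrix.sub_mulVec, this, Matrix.scalar_apply, sub_eq_zero]
    ext i; simp [Matrix.mulVec_diagonal]
  have hmB : ∀ y : eigSp s c, zB K y.1 ∈ LinearMap.ker (Matrix.toLin' (partB s - Matrix.scalar (Fin 3) c)) := fun y => by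
    have := ((app_fix_iff hfix).1 (mem_eigSp.1 y.2)).2.2.2
    rw [LinearMap.mem_ker, Matrix.toLin'_apply, Matrix.sub_mulVec, this, Matrix.scalar_apply, sub_eq_zero]
    ext i; simp [Matrix.mulVec_diagonal]
  let f : eigSp s c →ₗ[K] (LinearMap.ker (Matrix.toLin' (partA s - Matrix.scalar (Fin 3) c))) ×
      (LinearMap.ker (Matrix.toLin' (partB s - Matrix.scalar (Fin 3) c))) :=
    { toFun := fun y => (⟨zA K y.1, hmA y⟩, ⟨zB K y.1, hmB y⟩)
      map_add' := fun x y => Prod.ext (Subtype.ext (funext fun i => by fin_cases i <;> rfl))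
        (Subtype.ext (funext fun i => by fin_cases i <;> rfl))
      map_smul' := fun r x => Prod.ext (Subtype.ext (funext fun i => by fin_cases i <;> rfl))
        (Subtype.ext (funext fun i => by fin_cases i <;> rfl)) }
  have hfinj : Function.Injective f := by
    rw [injective_iff_map_eq_zero]
    intro y hy
    have hy1 : zA K y.1 = 0 := congrArg Subtype.val (Prod.ext_iff.1 hy).1
    have hy2 : zB K y.1 = 0 := congrArg Subtype.val (Prod.ext_iff.1 hy).2
    obtain ⟨h0, h7, -, -⟩ := (app_fix_iff hfix).1 (mem_eigSp.1 y.2)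
    have h0' := (mul_eq_zero.1 h0).resolve_left (sub_ne_zero.2 hc)
    have h7' := (mul_eq_zero.1 h7).resolve_left (sub_ne_zero.2 hc)
    refine Subtype.ext ?_
    rw [decomp y.1, h0', h7', hy1, hy2]
    funext i
    fin_cases i <;> simp [inA, inB]
  have h := LinearMap.finrank_le_finrank_of_injective hfinj
  rw [Module.finrank_prod] at h
  omega

/-- A semisimple automorphism is killed by whatever kills its eigenvalues. -/
theorem pow_eq_one_of_eig [IsAlgClosed K] (p : ℕ) [Fact p.Prime] [CharP K p] {s : G2 K} {m N : ℕ} (hs : s ^ m = 1) (hm : (m : K) ≠ 0)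
    (hfix : app s (e1 K) = e1 K) (h : ∀ x, IsEig (partA s) x → x ^ N = 1) : s ^ N = 1 := by
  obtain ⟨j, hj⟩ := exists_pow_eq_one (p := p) (partA s) h
  have e1' : stabHom (⟨s, hfix⟩ : stabE K) ^ (N * p ^ j) = 1 := Subtype.ext (by
    rw [Matrix.SpecialLinearGroup.coe_pow,
      show (stabHom (⟨s, hfix⟩ : stabE K) : Matrix (Fin 3) (Fin 3) K) = partA s from rfl, hj]
    rfl)
  rw [← map_pow, ← map_one (stabHom (F := K))] at e1'
  have e2' : (⟨s, hfix⟩ : stabE K) ^ (N * p ^ j) = 1 := stabHom_injective e1'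
  have e3 : s ^ (N * p ^ j) = 1 := congrArg Subtype.val e2'
  have hcop : Nat.Coprime m (p ^ j) := by
    refine Nat.Coprime.pow_right j ((Fact.out : p.Prime).coprime_iff_not_dvd.2 fun h => hm ?_).symm
    exact (CharP.cast_eq_zero_iff K p m).2 h
  have e4 := pow_gcd_eq_one.2 ⟨hs, e3⟩
  rw [Nat.Coprime.gcd_mul_right_cancel_right N hcop.symm] at e4
  obtain ⟨t, ht⟩ := Nat.gcd_dvd_right m N
  rw [ht, pow_mul, e4, one_pow]

/-- A unipotent automorphism commuting with a semisimple one with a fixed point has order at most `p`. -/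
theorem unipotent_pow_eq_one [IsAlgClosed K] (hp : p = 2 ∨ p = 3 ∨ p = 5) {s u : G2 K} (hcomm : Commute u s)
    {m k : ℕ} (hs : s ^ m = 1) (hm : (m : K) ≠ 0) (hu : u ^ p ^ k = 1) (hne : s ≠ 1)
    (hfix : app s (e1 K) = e1 K) (h1 : IsEig (partA s) 1) : u ^ p = 1 := by
  refine eq_one_of_fix_mov hs hm hne fun w hw => ?_
  have hN : IsNilpotent (mat u - 1) := isNilpotent_sub_one p (k := k) (by rw [← mat_pow, hu]; rfl)
  have hstab : ∀ x ∈ movSp s, (mat u - 1) *ᵥ x ∈ movSp s := fun x hx => by
    rw [Matrix.sub_mulVec, Matrix.one_mulVec]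
    exact Submodule.sub_mem _ (mov_stable hcomm x hx) hx
  have hd : Module.finrank K (movSp s) ≤ 4 := by
    have h := (Matrix.toLin' (mat s - 1)).finrank_range_add_finrank_ker
    rw [Module.finrank_fin_fun] at h
    have := finrank_fix_ge hfix h1
    change Module.finrank K (movSp s) + Module.finrank K (fixSp s) = 8 at h
    omega
  show mat (u ^ p) *ᵥ w = w
  rw [mat_pow, show mat u ^ p = mat u ^ p ^ 1 by rw [pow_one]]
  rcases hp with hp | hp | hp
  · -- characteristic two: the moved space is the sum of two eigenspaces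
    refine pow_fix p (d := 2) (by rw [hp]; norm_num) ?_
    obtain ⟨a, b, c, -, hd3, hroots⟩ := exists_triple (partA s)
    rw [det_partA hfix] at hd3
    obtain ⟨l, l', hll, hroot'⟩ : ∃ l l' : K, l * l' = 1 ∧ ∀ x, IsEig (partA s) x ↔ x = 1 ∨ x = l ∨ x = l' := by
      rcases (hroots 1).1 h1 with h | h | h
      · exact ⟨b, c, by rw [← h, one_mul] at hd3; exact hd3.symm, fun x => by rw [hroots, ← h]⟩
      · exact ⟨a, c, by rw [← h, mul_one] at hd3; exact hd3.symm, fun x => by rw [hroots, ← h]; tauto⟩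
      · exact ⟨a, b, by rw [← h, mul_one] at hd3; exact hd3.symm, fun x => by rw [hroots, ← h]; tauto⟩
    have hl1 : l ≠ 1 := by
      intro hl
      subst hl
      rw [one_mul] at hll
      subst hll
      refine hne ?_
      rw [← pow_one s]
      exact pow_eq_one_of_eig p hs hm hfix fun x hx => by
        rw [pow_one]; rcases (hroot' x).1 hx with h | h | h <;> exact h
    have h2 : (2 : K) = 0 := by
      have := CharP.cast_eq_zero K p
      rw [hp] at this
      simpa using this
    have hl'1 : l' ≠ 1 := fun h => hl1 (by rwa [h, mul_one] at hll)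
    have hlne : l ≠ l' := by
      intro h
      rw [← h] at hll
      exact hl1 (sub_eq_zero.1 (pow_eq_zero_iff two_ne_zero |>.1
        (show (l - 1) ^ 2 = 0 by linear_combination hll + (1 - l) * h2)))
    have hl0 : l ≠ 0 := left_ne_zero_of_mul (hll.trans_ne one_ne_zero)
    have hl'0 : l' ≠ 0 := right_ne_zero_of_mul (hll.trans_ne one_ne_zero)
    have hinvl : l⁻¹ = l' := inv_eq_of_mul_eq_one_right hll
    have hinvl' : l'⁻¹ = l := inv_eq_of_mul_eq_one_left hll
    have hA1 := (hroot' 1).2 (Or.inl rfl)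
    have hAl := (hroot' l).2 (Or.inr (Or.inl rfl))
    have hAl' := (hroot' l').2 (Or.inr (Or.inr rfl))
    have hB : ∀ x, x = 1 ∨ x = l ∨ x = l' → IsEig (partB s) x := by
      intro x hx
      rw [isEig_partB hfix]
      rcases hx with rfl | rfl | rfl
      · exact ⟨one_ne_zero, by rwa [inv_one]⟩
      · exact ⟨hl0, by rwa [hinvl]⟩
      · exact ⟨hl'0, by rwa [hinvl']⟩
    have hA : ∀ x, x = 1 ∨ x = l ∨ x = l' → IsEig (partA s) x := fun x hx => (hroot' x).2 hx
    have hquad := quad_kill hs hm hfix hll hl1 hl'1 hlne hA hB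
    have hE : ∀ c c', c ≠ 1 → c ≠ c' → c' ≠ 1 → (c' = l ∨ c' = l') →
        ∀ z, app s z = c • z → ((mat u - 1) ^ 2) *ᵥ z = 0 := by
      intro c c' hc hcc hc' hc'e z hz
      refine pow_mulVec_eq_zero hN (eigSp s c) (fun y hy => ?_)
        (finrank_eigSp_le hfix hc hcc hc' ⟨hA 1 (Or.inl rfl), hA c' (Or.inr hc'e)⟩
          ⟨hB 1 (Or.inl rfl), hB c' (Or.inr hc'e)⟩) z (mem_eigSp.2 hz)
      rw [mem_eigSp] at hy
      rw [mem_eigSp, Matrix.sub_mulVec, Matrix.one_mulVec]
      show app s (app u y - y) = c • (app u y - y)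
      rw [sub_eq_add_neg, app_add', ← neg_one_smul K y, app_smul', hy, ← app_mul_group, ← hcomm.eq, app_mul_group,
        hy, app_smul', smul_add, smul_comm c]
    have hq := hquad w hw
    have e1' : app s (app s w - l' • w) = l • (app s w - l' • w) := by
      rw [sub_eq_add_neg, app_add', ← neg_smul, app_smul']
      linear_combination (norm := module) hq + hll • w
    have e2' : app s (app s w - l • w) = l' • (app s w - l • w) := by
      rw [sub_eq_add_neg, app_add', ← neg_smul, app_smul']
      linear_combination (norm := module) hq + hll • w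
    have h := congrArg₂ (· - ·) (hE l l' hl1 hlne hl'1 (Or.inr rfl) _ e1') (hE l' l hl'1 hlne.symm hl1 (Or.inl rfl) _ e2')
    simp only [sub_self, ← Matrix.mulVec_sub] at h
    rw [show app s w - l' • w - (app s w - l • w) = (l - l') • w by module, Matrix.mulVec_smul, smul_eq_zero] at h
    exact h.resolve_left (sub_ne_zero.2 hlne)
  · refine pow_fix p (d := 3) (by rw [hp]; norm_num) ?_
    have h2 : (2 : K) ≠ 0 := by
      intro h
      have := (CharP.cast_eq_zero_iff K p 2).1 (by exact_mod_cast h)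
      rw [hp] at this
      norm_num at this
    exact cube_eq_zero h2 (app_pol' u) hN (movSp s) (mov_stable hcomm) hd (fun x hx => nondeg_mov hs hm hx) w hw
  · refine pow_fix p (d := 4) (by rw [hp]; norm_num) ?_
    exact pow_mulVec_eq_zero hN (movSp s) hstab hd w hw

/-- The bound for unipotent automorphisms. -/
theorem unipotent_bound {u : G2 K} {k : ℕ} (hu : u ^ p ^ k = 1) {j : ℕ} (hj : 7 ≤ p ^ j) (hp : p = 2 → 8 ≤ p ^ j) :
    u ^ p ^ j = 1 := by
  have hN : IsNilpotent (mat u - 1) := isNilpotent_sub_one p (k := k) (by rw [← mat_pow, hu]; rfl)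
  refine ext_app fun x => ?_
  rw [app_one_group]
  show mat (u ^ p ^ j) *ᵥ x = x
  rw [mat_pow]
  by_cases h8 : 8 ≤ p ^ j
  · refine pow_fix p h8 (pow_mulVec_eq_zero hN ⊤ (fun w _ => trivial) (by simp) x trivial)
  · have h2 : (2 : K) ≠ 0 := by
      intro h
      have := (CharP.cast_eq_zero_iff K p 2).1 (by exact_mod_cast h)
      exact h8 (hp ((Nat.prime_dvd_prime_iff_eq (Fact.out : p.Prime) Nat.prime_two).1 this))
    let f : (Fin 8 → K) →ₗ[K] K := LinearMap.proj (R := K) (φ := fun _ : Fin 8 => K) 0 +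
      LinearMap.proj (R := K) (φ := fun _ : Fin 8 => K) 7
    have hf : ∀ y, f y = tr y := fun y => rfl
    have hker : Module.finrank K (LinearMap.ker f) ≤ 7 := by
      have h := f.finrank_range_add_finrank_ker
      rw [Module.finrank_fin_fun] at h
      have : LinearMap.range f ≠ ⊥ := fun h0 => by
        have h1 : f (one8 K) = 0 := by
          have : f (one8 K) ∈ LinearMap.range f := ⟨_, rfl⟩
          rwa [h0, Submodule.mem_bot] at this
        rw [hf] at h1
        simp [tr, one8] at h1
        exact h2 (by linear_combination h1)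
      have : 1 ≤ Module.finrank K (LinearMap.range f) := by
        rwa [Nat.one_le_iff_ne_zero, Ne, Submodule.finrank_eq_zero]
      omega
    have hx : x - (tr x / 2) • one8 K ∈ LinearMap.ker f := by
      rw [LinearMap.mem_ker, map_sub, map_smul, hf, hf, show tr (one8 K) = 2 by simp [tr, one8]; norm_num,
        smul_eq_mul, div_mul_cancel₀ _ h2, sub_self]
    have hz := pow_mulVec_eq_zero hN (LinearMap.ker f) (fun w hw => by
      rw [LinearMap.mem_ker, hf] at hw ⊢
      rw [Matrix.sub_mulVec, Matrix.one_mulVec]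
      show tr (app u w - w) = 0
      have := app_tr' u w
      simp only [tr, Pi.sub_apply] at this hw ⊢
      linear_combination this) hker _ hx
    have h1 := pow_fix p hj hz
    rw [Matrix.mulVec_sub, Matrix.mulVec_smul] at h1
    have hone : (mat u ^ p ^ j) *ᵥ one8 K = one8 K := by rw [← mat_pow]; exact app_one _
    rw [hone] at h1
    exact sub_left_injective h1

end

end CfsgLib.G2Octonion
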