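import Cfsg.Agent.G2Octonion.Forms
import Cfsg.Agent.G2Octonion.Bound
import Mathlib.RingTheory.RootsOfUnity.AlgebraicallyClosed
import Mathlib.FieldTheory.Finite.Basic
import Mathlib.Algebra.CharP.Two

/-!
Elements of the group of type G2 with the large semisimple and mixed orders.
-/

set_option autoImplicit false
set_option linter.style.haveILetI false

namespace CfsgLib.G2Octonion

open Cfsg.Lie Matrix CfsgLib.SylowTwoAb.Oct

noncomputable section

variable {K : Type*} [Field K]

theorem orderOf_eq_of_fix {g : G2 K} (hg : app g (e1 K) = e1 K) : orderOf g = orderOf (partA g) := by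
  have h : ∀ n : ℕ, app (g ^ n) (e1 K) = e1 K ∧ partA (g ^ n) = partA g ^ n := fun n => by
    induction n with
    | zero => exact ⟨app_one_group _, by rw [pow_zero, pow_zero, partA_one]⟩
    | succ n ih => exact ⟨by rw [pow_succ, app_mul_group, hg, ih.1], by rw [pow_succ, partA_mul hg, ih.2, pow_succ]⟩
  refine orderOf_eq_orderOf_iff.2 fun n => ?_
  rw [← (h n).2]
  constructor
  · intro e; rw [e, partA_one]
  · intro e; exact eq_of_partA (h n).1 (app_one_group _) (e.trans partA_one.symm)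

/-- An idempotent that the Frobenius map moves as `W` does. -/
def MovesIdem (σ : K ≃+* K) (W : G2 K) : Prop :=
  ∃ e : Fin 8 → K, tr e = 1 ∧ nQ K e = 0 ∧ (σ : K →+* K) ∘ e = app W e

theorem app_stab_tau {P : Matrix (Fin 3) (Fin 3) K} {π : G2 K} (hπ : app π (e1 K) = e1 K) (hπA : partA π = P)
    (hPP : Pᵀ * P = 1) (x : Fin 8 → K) :
    app (π * tau K) x = x 7 • e1 K + x 0 • (one8 K - e1 K) + inA (-(P *ᵥ zB K x)) + inB (-(P *ᵥ zA K x)) := by
  have hB : partB π = P := by
    have h := partA_transpose_mul_partB hπ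
    rw [hπA] at h
    exact (inv_eq_right_inv h).symm.trans (inv_eq_right_inv hPP)
  rw [app_mul_group, app_of_fix hπ, app_tau, hB, hπA]
  congr 2
  · rw [← Matrix.mulVec_neg]
    congr 2
    funext i
    fin_cases i <;> simp [tauMap, zA, zB]
  · rw [← Matrix.mulVec_neg]
    congr 2
    funext i
    fin_cases i <;> simp [tauMap, zA, zB]

section galois

variable {F : Type*} [Field F] [Fintype F] [IsAlgClosed K] {p : ℕ} [hp : Fact p.Prime] [CharP K p]
variable {a : ℕ} (ha : 1 ≤ a) (hF : Fintype.card F = p ^ a) (ι : F →+* K) (σ : K ≃+* K) (hσ : ∀ x, σ x = x ^ p ^ a)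

omit [IsAlgClosed K] [CharP K p] in
include ha hF hσ in
theorem exists_preimage {x : K} (hx : σ x = x) : ∃ y, ι y = x := by
  classical
  by_contra hcon
  push Not at hcon
  set Z : Finset K := insert x ((Finset.univ : Finset F).image ι) with hZ
  have h1 : 1 < p ^ a := Nat.one_lt_pow (by omega) hp.out.one_lt
  have hsub : Z.val ⊆ (Polynomial.X ^ p ^ a - Polynomial.X : Polynomial K).roots := by
    intro z hz
    rw [Polynomial.mem_roots (FiniteField.X_pow_card_sub_X_ne_zero K h1)]
    have hz' : z ∈ Z := hz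
    rw [hZ, Finset.mem_insert, Finset.mem_image] at hz'
    rcases hz' with rfl | ⟨y, -, rfl⟩
    · simp [← hσ, hx]
    · simp [← map_pow, ← hF, FiniteField.pow_card]
  have h := Polynomial.card_le_degree_of_subset_roots hsub
  rw [FiniteField.X_pow_card_sub_X_natDegree_eq K h1, hZ, Finset.card_insert_of_notMem (by simpa using hcon),
    Finset.card_image_of_injective _ ι.injective, Finset.card_univ, hF] at h
  omega

omit [IsAlgClosed K] [CharP K p] in
include ha hF hσ in
theorem descend {g : G2 K} (hg : autG σ g = g) : ∃ g0 : G2 F, mapG ι g0 = g := by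
  have hfix : ∀ i j, σ (mat g i j) = mat g i j := fun i j => congrFun (congrFun (congrArg mat hg) i) j
  have hfix' : ∀ i j, σ (mat g⁻¹ i j) = mat g⁻¹ i j := fun i j =>
    congrFun (congrFun (congrArg mat (show autG σ g⁻¹ = g⁻¹ by rw [map_inv, hg])) i) j
  choose M hM using fun i j => exists_preimage ha hF ι σ hσ (hfix i j)
  choose M' hM' using fun i j => exists_preimage ha hF ι σ hσ (hfix' i j)
  have hmap : (Matrix.of M).map ι = mat g := Matrix.ext hM
  have hmap' : (Matrix.of M').map ι = mat g⁻¹ := Matrix.ext hM'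
  have hinj : Function.Injective fun A : Matrix (Fin 8) (Fin 8) F => A.map ι := Matrix.map_injective ι.injective
  let u : GL (Fin 8) F := ⟨Matrix.of M, Matrix.of M',
    hinj (show (Matrix.of M * Matrix.of M').map ι = (1 : Matrix (Fin 8) (Fin 8) F).map ι by
      rw [Matrix.map_mul, hmap, hmap', mat_inv', Matrix.map_one _ (map_zero _) (map_one _)]),
    hinj (show (Matrix.of M' * Matrix.of M).map ι = (1 : Matrix (Fin 8) (Fin 8) F).map ι by
      rw [Matrix.map_mul, hmap, hmap', mat_inv, Matrix.map_one _ (map_zero _) (map_one _)])⟩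
  have hu : u ∈ G2 F := by
    intro x y
    have hcomp : ∀ z : Fin 8 → F, ι ∘ (Matrix.of M *ᵥ z) = app g (ι ∘ z) := fun z => by
      funext i
      show ι ((Matrix.of M *ᵥ z) i) = (mat g *ᵥ (ι ∘ z)) i
      rw [RingHom.map_mulVec, hmap]
    refine funext fun i => ι.injective ?_
    show (ι ∘ (Matrix.of M *ᵥ zornMul x y)) i = (ι ∘ zornMul (Matrix.of M *ᵥ x) (Matrix.of M *ᵥ y)) i
    rw [hcomp, map_zornMul, map_zornMul, hcomp, hcomp, app_mul]
  exact ⟨⟨u, hu⟩, Subtype.ext (Units.ext hmap)⟩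

include ha hF ι hσ in
/-- A twisted element gives an element of the finite group of the same order. -/
theorem exists_orderOf_of_moves {W : G2 K} (hW : MovesIdem σ W) {A Q : Matrix (Fin 3) (Fin 3) K}
    (hA : A.det = 1) (hQ : ∀ D : G2 K, app D (e1 K) = e1 K → partA D = A →
      app (W * D * W⁻¹) (e1 K) = e1 K ∧ partA (W * D * W⁻¹) = Q) (hAQ : A.map σ = Q) :
    ∃ g : G2 F, orderOf g = orderOf A := by
  obtain ⟨D, hD, hDA⟩ := exists_pair A hA
  obtain ⟨hfix, hQA⟩ := hQ D hD hDA
  have hσD : autG σ D = W * D * W⁻¹ := by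
    refine eq_of_partA ?_ hfix ?_
    · rw [← comp_e1 (σ : K →+* K), app_autG, hD]
    · rw [partA_autG, hDA, hQA, hAQ]
  obtain ⟨e, ht, hn, he⟩ := hW
  obtain ⟨h, hh⟩ := lang_idem (p := p) ha σ hσ ht hn he
  have hg : autG σ (h⁻¹ * D * h) = h⁻¹ * D * h := by
    rw [map_mul, map_mul, map_inv, hh, hσD]
    group
  obtain ⟨g0, hg0⟩ := descend ha hF ι σ hσ hg
  refine ⟨g0, ?_⟩
  rw [← orderOf_injective (mapG ι) (mapG_injective ι) g0, hg0, ← hDA, ← orderOf_eq_of_fix hD]
  have := MulEquiv.orderOf_eq (MulAut.conj h⁻¹) D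
  simpa using this

omit [IsAlgClosed K] [CharP K p] in
theorem movesIdem_stab {W : G2 K} (hW : app W (e1 K) = e1 K) : MovesIdem σ W :=
  ⟨e1 K, by simp [tr, e1], by simp [nQ_apply, e1], by rw [hW, comp_e1]⟩

omit [CharP K p] in
include ha hσ in
/-- The idempotents moved as by the exchange composed with a permutation matrix. -/
theorem exists_scalar_part : ∃ s : K, s + σ s = 1 ∧ σ (σ s) = s ∧ s ≠ 0 ∧ σ s ≠ 0 := by
  have h1 : 1 < p ^ a := Nat.one_lt_pow (by omega) hp.out.one_lt
  obtain ⟨s, hs⟩ := IsAlgClosed.exists_root (Polynomial.X ^ p ^ a + Polynomial.X - Polynomial.C 1 : Polynomial K) (by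
    have : (Polynomial.X ^ p ^ a + Polynomial.X - Polynomial.C 1 : Polynomial K).natDegree = p ^ a := by
      rw [Polynomial.natDegree_sub_C, Polynomial.natDegree_add_eq_left_of_natDegree_lt (by simp; omega),
        Polynomial.natDegree_X_pow]
    intro h
    rw [Polynomial.natDegree_eq_zero_iff_degree_le_zero.2 h.le] at this
    omega)
  simp [Polynomial.IsRoot] at hs
  have hs1 : s + σ s = 1 := by rw [hσ]; linear_combination hs
  have hσσ : σ (σ s) = s := by
    have := congrArg σ hs1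
    rw [map_add, map_one] at this
    linear_combination this - hs1
  have hs0 : s ≠ 0 := fun h => by simp [h] at hs1
  exact ⟨s, hs1, hσσ, hs0, by simpa using hs0⟩

omit [CharP K p] in
include ha hσ in
/-- A permutation matrix fixing a coordinate up to sign gives a moved idempotent. -/
theorem movesIdem_fixed_point {P : Matrix (Fin 3) (Fin 3) K} {π : G2 K} (hπ : app π (e1 K) = e1 K) (hπA : partA π = P)
    (hPP : Pᵀ * P = 1) {j : Fin 3} (hj : P *ᵥ Pi.single j 1 = -Pi.single j 1) : MovesIdem σ (π * tau K) := by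
  obtain ⟨s, hs, hσσ, -, -⟩ := exists_scalar_part ha σ hσ
  refine ⟨s • e1 K + σ s • (one8 K - e1 K) + inA (s • Pi.single j 1) + inB (σ s • Pi.single j 1), ?_, ?_, ?_⟩
  · simp [tr, e1, one8, inA, inB]; linear_combination hs
  · fin_cases j <;> simp [nQ_apply, e1, one8, inA, inB, Pi.single_apply] <;> ring
  · rw [app_stab_tau hπ hπA hPP]
    set x := s • e1 K + σ s • (one8 K - e1 K) + inA (s • Pi.single j 1) + inB (σ s • Pi.single j 1) with hx
    have hA : zA K x = s • Pi.single j 1 := by funext i; fin_cases i <;> simp [hx, zA, e1, one8, inA, inB]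
    have hB : zB K x = σ s • Pi.single j 1 := by funext i; fin_cases i <;> simp [hx, zB, e1, one8, inA, inB]
    rw [hA, hB, Matrix.mulVec_smul, Matrix.mulVec_smul, hj, smul_neg, smul_neg, neg_neg, neg_neg]
    funext i
    fin_cases j <;> fin_cases i <;> simp [hx, e1, one8, inA, inB, hσσ]

/-- The cyclic permutation matrix. -/
def cycP (K : Type*) [Field K] : Matrix (Fin 3) (Fin 3) K := !![0, 1, 0; 0, 0, 1; 1, 0, 0]

/-- The transposition with sign. -/
def swapP (K : Type*) [Field K] : Matrix (Fin 3) (Fin 3) K := !![0, 1, 0; 1, 0, 0; 0, 0, -1]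

/-- The reversal with sign. -/
def revP (K : Type*) [Field K] : Matrix (Fin 3) (Fin 3) K := !![0, 0, 1; 0, -1, 0; 1, 0, 0]

omit [CharP K p] in
include ha hσ in
theorem movesIdem_cyc {π : G2 K} (hπ : app π (e1 K) = e1 K) (hπA : partA π = cycP K) :
    MovesIdem σ (π * tau K) := by
  obtain ⟨s, hs, hσσ, hs0, hs1⟩ := exists_scalar_part ha σ hσ
  set q := p ^ a with hq
  have h1 : 1 < q := Nat.one_lt_pow (by omega) hp.out.one_lt
  have hlt : q < q ^ 2 := by rw [sq]; nlinarith
  set c := -(s * σ s) with hc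
  have hσc : σ c = c := by rw [hc, map_neg, map_mul, hσσ, mul_comm]
  obtain ⟨w, hw⟩ := IsAlgClosed.exists_root
    (Polynomial.X ^ q ^ 2 + Polynomial.X ^ q + Polynomial.X - Polynomial.C c : Polynomial K) (by
    have : (Polynomial.X ^ q ^ 2 + Polynomial.X ^ q + Polynomial.X - Polynomial.C c : Polynomial K).natDegree = q ^ 2 := by
      have hd : (Polynomial.X ^ q ^ 2 + Polynomial.X ^ q : Polynomial K).natDegree = q ^ 2 := by
        rw [Polynomial.natDegree_add_eq_left_of_natDegree_lt (by simpa using hlt), Polynomial.natDegree_X_pow]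
      rw [Polynomial.natDegree_sub_C,
        Polynomial.natDegree_add_eq_left_of_natDegree_lt (by rw [hd, Polynomial.natDegree_X]; omega), hd]
    intro h
    rw [Polynomial.natDegree_eq_zero_iff_degree_le_zero.2 h.le] at this
    omega)
  simp [Polynomial.IsRoot] at hw
  have hpow : ∀ x : K, σ x = x ^ q := hσ
  have hwsum : σ (σ w) + σ w + w = c := by
    rw [hpow (σ w), hpow w, ← pow_mul, ← sq]
    linear_combination hw
  have hw3 : σ (σ (σ w)) = w := by
    have := congrArg σ hwsum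
    rw [map_add, map_add, hσc] at this
    linear_combination this - hwsum
  have hw0 : w ≠ 0 := by
    intro h
    rw [h, map_zero, map_zero, add_zero, add_zero, hc, eq_comm, neg_eq_zero, mul_eq_zero] at hwsum
    exact hwsum.elim hs0 hs1
  obtain ⟨y, hy⟩ := IsAlgClosed.exists_pow_nat_eq w (show 0 < q ^ 3 + 1 by omega)
  have hy' : y * σ (σ (σ y)) = w := by
    rw [hpow (σ (σ y)), hpow (σ y), hpow y, ← pow_mul, ← pow_mul, ← hy, pow_succ' y]
    ring_nf
  have hy6 : σ (σ (σ (σ (σ (σ y))))) = y := by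
    have := congrArg (fun z => σ (σ (σ z))) hy'
    simp only [map_mul, hw3] at this
    have hy3 : σ (σ (σ y)) ≠ 0 := fun h => hw0 (by rw [← hy', h, mul_zero])
    exact mul_left_cancel₀ hy3 (by linear_combination this - hy')
  refine ⟨![s, y, σ (σ (σ (σ y))), σ (σ y), -σ (σ (σ y)), -σ y, -σ (σ (σ (σ (σ y)))), σ s], ?_, ?_, ?_⟩
  · simp [tr]; linear_combination hs
  · rw [nQ_apply]
    have e1' := congrArg σ hy'
    have e2' := congrArg (fun z => σ (σ z)) hy'
    simp only [map_mul] at e1' e2'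
    simp
    rw [hc] at hwsum
    linear_combination hwsum + hy' + e1' + e2'
  · rw [app_stab_tau hπ hπA (by ext i j; fin_cases i <;> fin_cases j <;> simp [cycP, Matrix.mul_apply, Fin.sum_univ_three])]
    funext i
    fin_cases i <;> simp [cycP, e1, one8, inA, inB, zA, zB, Matrix.mulVec, dotProduct, Fin.sum_univ_three, hσσ, hy6]

/-- The matrix of the conjugate by a product of the exchange and a permutation. -/
theorem tau_conj {P P' A : Matrix (Fin 3) (Fin 3) K} {π D : G2 K} (hπ : app π (e1 K) = e1 K) (hπA : partA π = P)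
    (hP : P * P' = 1) (hD : app D (e1 K) = e1 K) (hDA : partA D = A) :
    app (π * tau K * D * (π * tau K)⁻¹) (e1 K) = e1 K ∧
      partA (π * tau K * D * (π * tau K)⁻¹) = P * A.adjugateᵀ * P' := by
  have htau : (tau K)⁻¹ = tau K := inv_eq_of_mul_eq_one_right tau_mul_tau
  have e : π * tau K * D * (π * tau K)⁻¹ = π * (tau K * D * tau K) * π⁻¹ := by
    rw [_root_.mul_inv_rev, htau]; simp only [mul_assoc]
  rw [e]
  refine ⟨by rw [app_mul_group, inv_fix hπ, app_mul_group, conj_tau_fix hD, hπ], ?_⟩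
  rw [partA_mul (inv_fix hπ), partA_mul (conj_tau_fix hD), partA_conj_tau hD, partB_eq_adjugate hD, hπA, hDA]
  congr 1
  have h := partA_mul (g := π) (inv_fix hπ)
  rw [mul_inv_cancel, partA_one, hπA] at h
  exact (inv_eq_right_inv h.symm).symm.trans (inv_eq_right_inv hP)

theorem stab_conj {P P' A : Matrix (Fin 3) (Fin 3) K} {π D : G2 K} (hπ : app π (e1 K) = e1 K) (hπA : partA π = P)
    (hP : P * P' = 1) (hD : app D (e1 K) = e1 K) (hDA : partA D = A) :
    app (π * D * π⁻¹) (e1 K) = e1 K ∧ partA (π * D * π⁻¹) = P * A * P' := by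
  refine ⟨by rw [app_mul_group, inv_fix hπ, app_mul_group, hD, hπ], ?_⟩
  rw [partA_mul (inv_fix hπ), partA_mul hD, hπA, hDA]
  congr 1
  have h := partA_mul (g := π) (inv_fix hπ)
  rw [mul_inv_cancel, partA_one, hπA] at h
  exact (inv_eq_right_inv h.symm).symm.trans (inv_eq_right_inv hP)

include ha hF ι hσ in
theorem exists_stab_twist {P P' A : Matrix (Fin 3) (Fin 3) K} (hPd : P.det = 1) (hP : P * P' = 1) (hA : A.det = 1)
    (hσA : A.map σ = P * A * P') : ∃ g : G2 F, orderOf g = orderOf A := by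
  obtain ⟨π, hπ, hπA⟩ := exists_pair P hPd
  exact exists_orderOf_of_moves ha hF ι σ hσ (movesIdem_stab σ hπ) hA
    (fun D hD hDA => stab_conj hπ hπA hP hD hDA) hσA

omit [IsAlgClosed K] hp [CharP K p] in
theorem diag_pow_eq_one (d : Fin 3 → K) (n : ℕ) : Matrix.diagonal d ^ n = 1 ↔ ∀ i, d i ^ n = 1 := by
  rw [Matrix.diagonal_pow, ← Matrix.diagonal_one, Matrix.diagonal_eq_diagonal_iff]
  simp

theorem exists_root_of_unity (N : ℕ) (hN : (N : K) ≠ 0) : ∃ y : K, orderOf y = N ∧ y ≠ 0 := by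
  haveI : NeZero (N : K) := ⟨hN⟩
  obtain ⟨y, hy⟩ := HasEnoughRootsOfUnity.exists_primitiveRoot K N
  exact ⟨y, hy.eq_orderOf.symm, hy.ne_zero fun h => hN (by rw [h, Nat.cast_zero])⟩

include ha hF ι hσ in
theorem exists_q2q1 : ∃ g : G2 F, orderOf g = (p ^ a) ^ 2 + p ^ a + 1 := by
  set q := p ^ a with hq
  have hqK : (q : K) = 0 := by rw [hq, Nat.cast_pow, CharP.cast_eq_zero, zero_pow (by omega)]
  obtain ⟨y, hy, hy0⟩ := exists_root_of_unity (K := K) (q ^ 2 + q + 1) (by push_cast; simp [hqK])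
  have hyN : y ^ (q ^ 2 + q + 1) = 1 := by rw [← hy, pow_orderOf_eq_one]
  have hy3 : y ^ q ^ 3 = y := by
    rcases Nat.eq_zero_or_pos q with h | h
    · exact absurd h (by rw [hq]; exact pow_ne_zero _ hp.out.ne_zero)
    · have e : q ^ 3 + (q ^ 2 + q + 1) = (q ^ 2 + q + 1) * q + 1 + 0 := by ring
      have e2 : y ^ (q ^ 3 + (q ^ 2 + q + 1)) = y := by rw [e, add_zero, pow_succ, pow_mul, hyN, one_pow, one_mul]
      rwa [pow_add, hyN, mul_one] at e2
  let d : Fin 3 → K := ![y, y ^ q, y ^ q ^ 2]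
  have hdet : (Matrix.diagonal d).det = 1 := by
    rw [Matrix.det_diagonal, Fin.prod_univ_three, ← hyN]; simp [d, pow_add]; ring
  obtain ⟨g, hg⟩ := exists_stab_twist ha hF ι σ hσ (P := cycP K) (P' := (cycP K)ᵀ) (by simp [cycP, Matrix.det_fin_three])
    (by ext i j; fin_cases i <;> fin_cases j <;> simp [cycP, Matrix.mul_apply, Fin.sum_univ_three]) hdet (by
      ext i j
      have hqne : q ≠ 0 := pow_ne_zero _ hp.out.ne_zero
      fin_cases i <;> fin_cases j <;> simp [hqne, cycP, d, Matrix.mul_apply, Matrix.vecMul, dotProduct,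
        Matrix.diagonal_apply, Fin.sum_univ_three, hσ, ← hq, ← pow_mul,
        ← sq, ← pow_succ, hy3])
  refine ⟨g, hg.trans (Eq.trans (orderOf_eq_orderOf_iff.2 fun n => ?_) hy)⟩
  rw [diag_pow_eq_one]
  refine ⟨fun h => h 0, fun h i => ?_⟩
  fin_cases i <;> simp [d, ← pow_mul, mul_comm _ n, pow_mul y n, h]

include ha hF ι hσ in
theorem exists_q2m1 : ∃ g : G2 F, orderOf g = (p ^ a) ^ 2 - 1 := by
  set q := p ^ a with hq
  have hq1 : 1 ≤ q ^ 2 := Nat.one_le_pow _ _ (Nat.pow_pos hp.out.pos)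
  have hqK : (q : K) = 0 := by rw [hq, Nat.cast_pow, CharP.cast_eq_zero, zero_pow (by omega)]
  obtain ⟨y, hy, hy0⟩ := exists_root_of_unity (K := K) (q ^ 2 - 1) (by rw [Nat.cast_sub hq1]; simp [hqK])
  have hy2 : y ^ q ^ 2 = y := by
    rw [← Nat.sub_add_cancel hq1, pow_succ, ← hy, pow_orderOf_eq_one, one_mul]
  let d : Fin 3 → K := ![y, y ^ q, (y * y ^ q)⁻¹]
  have hdet : (Matrix.diagonal d).det = 1 := by
    rw [Matrix.det_diagonal, Fin.prod_univ_three]; simp [d]; field_simp
  obtain ⟨g, hg⟩ := exists_stab_twist ha hF ι σ hσ (P := swapP K) (P' := swapP K) (by simp [swapP, Matrix.det_fin_three])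
    (by ext i j; fin_cases i <;> fin_cases j <;> simp [swapP, Matrix.mul_apply, Fin.sum_univ_three]) hdet (by
      ext i j
      have hqne : q ≠ 0 := pow_ne_zero _ hp.out.ne_zero
      fin_cases i <;> fin_cases j <;> simp [hqne, swapP, d, Matrix.mul_apply, Matrix.vecMul, dotProduct,
        Matrix.diagonal_apply, Fin.sum_univ_three, hσ, ← hq, ← pow_mul,
        ← sq, inv_pow, mul_pow, hy2, mul_comm])
  refine ⟨g, hg.trans (Eq.trans (orderOf_eq_orderOf_iff.2 fun n => ?_) hy)⟩
  rw [diag_pow_eq_one]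
  refine ⟨fun h => h 0, fun h i => ?_⟩
  fin_cases i <;> simp [d, ← pow_mul, mul_comm _ n, pow_mul y n, h, inv_pow, mul_pow]

include ha hF ι hσ in
theorem exists_q2mq1 : ∃ g : G2 F, orderOf g = (p ^ a) ^ 2 - p ^ a + 1 := by
  set q := p ^ a with hq
  have hle : q ≤ q ^ 2 := Nat.le_self_pow two_ne_zero q
  have hqK : (q : K) = 0 := by rw [hq, Nat.cast_pow, CharP.cast_eq_zero, zero_pow (by omega)]
  obtain ⟨y, hy, hy0⟩ := exists_root_of_unity (K := K) (q ^ 2 - q + 1) (by push_cast [Nat.cast_sub hle]; simp [hqK])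
  have hN : y ^ (q ^ 2 - q + 1) = 1 := by rw [← hy, pow_orderOf_eq_one]
  have hy1 : y ^ q ^ 2 * y = y ^ q := by
    have e : q ^ 2 + 1 = (q ^ 2 - q + 1) + q := by omega
    rw [← pow_succ, e, pow_add, hN, one_mul]
  have hy3 : y ^ q ^ 3 = y⁻¹ := by
    refine eq_inv_of_mul_eq_one_left ?_
    have e2 : q ^ 3 + q + 1 = (q ^ 2 - q + 1) * q + q ^ 2 + 1 := by
      have : (q ^ 2 - q + 1) * q + q ^ 2 = q ^ 3 + q := by
        have h2 : q ^ 2 - q + 1 + q = q ^ 2 + 1 := by omega
        have := congrArg (· * q) h2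
        simp only [add_mul] at this
        nlinarith [this]
      omega
    have e3 : y ^ (q ^ 3 + q + 1) = y ^ q := by
      rw [e2, pow_succ, pow_add, pow_mul, hN, one_pow, one_mul, hy1]
    rw [show q ^ 3 + q + 1 = q ^ 3 + 1 + q by ring, pow_add] at e3
    rw [← pow_succ]
    exact mul_right_cancel₀ (pow_ne_zero q hy0) (by rw [e3, one_mul])
  let d : Fin 3 → K := ![y, (y ^ q)⁻¹, y ^ q ^ 2]
  have hdet : (Matrix.diagonal d).det = 1 := by
    rw [Matrix.det_diagonal, Fin.prod_univ_three]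
    simp [d]
    rw [mul_right_comm, mul_comm y, hy1, mul_inv_cancel₀ (pow_ne_zero _ hy0)]
  obtain ⟨π, hπ, hπA⟩ := exists_pair (cycP K) (by simp [cycP, Matrix.det_fin_three])
  obtain ⟨g, hg⟩ := exists_orderOf_of_moves ha hF ι σ hσ (movesIdem_cyc ha σ hσ hπ hπA) hdet
    (Q := cycP K * (Matrix.diagonal d).adjugateᵀ * (cycP K)ᵀ)
    (fun D hD hDA => tau_conj hπ hπA (by ext i j; fin_cases i <;> fin_cases j <;>
      simp [cycP, Matrix.mul_apply, Fin.sum_univ_three]) hD hDA) (by
      have e : (Matrix.diagonal d).adjugateᵀ = Matrix.diagonal fun i => (d i)⁻¹ := by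
        have h1 : (Matrix.diagonal d).adjugate = Matrix.diagonal fun i => (d i)⁻¹ := by
          refine (inv_eq_right_inv (A := Matrix.diagonal d) (by rw [Matrix.mul_adjugate, hdet, one_smul])).symm.trans
            (inv_eq_right_inv ?_)
          rw [Matrix.diagonal_mul_diagonal, ← Matrix.diagonal_one]
          congr 1
          funext i
          fin_cases i <;> simp [d, hy0]
        rw [h1, Matrix.diagonal_transpose]
      rw [e]
      ext i j
      have hqne : q ≠ 0 := pow_ne_zero _ hp.out.ne_zero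
      fin_cases i <;> fin_cases j <;> simp [hqne, cycP, d, Matrix.mul_apply, Matrix.vecMul, dotProduct,
        Matrix.diagonal_apply, Fin.sum_univ_three, hσ, ← hq, ← pow_mul, ← sq,
        ← pow_succ, inv_pow, hy3])
  refine ⟨g, hg.trans (Eq.trans (orderOf_eq_orderOf_iff.2 fun n => ?_) hy)⟩
  rw [diag_pow_eq_one]
  refine ⟨fun h => h 0, fun h i => ?_⟩
  fin_cases i <;> simp [d, ← pow_mul, mul_comm _ n, pow_mul y n, h, inv_pow]

omit [IsAlgClosed K] [CharP K p] hp in
theorem mixed_pow (y t : K) (hy : y ≠ 0) (n : ℕ) :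
    (!![y, t, 0; 0, y, 0; 0, 0, (y * y)⁻¹] : Matrix (Fin 3) (Fin 3) K) ^ n =
      !![y ^ n, (n : K) * y ^ n * (t / y), 0; 0, y ^ n, 0; 0, 0, ((y * y)⁻¹) ^ n] := by
  induction n with
  | zero => ext i j; fin_cases i <;> fin_cases j <;> simp
  | succ n ih =>
    rw [pow_succ, ih]
    ext i j
    fin_cases i <;> fin_cases j <;> simp [Matrix.mul_apply, Fin.sum_univ_three, pow_succ] <;>
      (try field_simp) <;> (try ring)

theorem orderOf_mixed {y t : K} {N : ℕ} (hy : orderOf y = N) (hy0 : y ≠ 0) (ht : t ≠ 0) (hN : ¬ p ∣ N) :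
    orderOf (!![y, t, 0; 0, y, 0; 0, 0, (y * y)⁻¹] : Matrix (Fin 3) (Fin 3) K) = p * N := by
  have h : ∀ n : ℕ, (!![y, t, 0; 0, y, 0; 0, 0, (y * y)⁻¹] : Matrix (Fin 3) (Fin 3) K) ^ n = 1 ↔ p ∣ n ∧ N ∣ n := by
    intro n
    rw [mixed_pow y t hy0, ← hy, orderOf_dvd_iff_pow_eq_one, ← CharP.cast_eq_zero_iff K p n]
    constructor
    · intro e
      have h0 := congrFun (congrFun e 0) 0
      have h1 := congrFun (congrFun e 0) 1
      simp at h0 h1
      simp [hy0, ht] at h1
      exact ⟨h1, h0⟩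
    · rintro ⟨e1', e2'⟩
      ext i j
      fin_cases i <;> fin_cases j <;> simp [e1', e2', inv_pow, mul_pow]
  obtain ⟨h1, h2⟩ := (h _).1 (pow_orderOf_eq_one _)
  exact Nat.dvd_antisymm (orderOf_dvd_of_pow_eq_one ((h _).2 ⟨dvd_mul_right p N, dvd_mul_left N p⟩))
    ((hp.out.coprime_iff_not_dvd.2 hN).mul_dvd_of_dvd_of_dvd h1 h2)

omit [CharP K p] in
theorem adjugate_transpose_eq {A B : Matrix (Fin 3) (Fin 3) K} (hA : A.det = 1) (h : Aᵀ * B = 1) :
    A.adjugateᵀ = B := by
  have h2 : Aᵀ * A.adjugateᵀ = 1 := by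
    rw [← Matrix.transpose_mul, Matrix.adjugate_mul, hA, one_smul, Matrix.transpose_one]
  exact (inv_eq_right_inv h2).symm.trans (inv_eq_right_inv h)

include ha hF ι hσ in
theorem exists_pqm1 : ∃ g : G2 F, orderOf g = p * (p ^ a - 1) := by
  set q := p ^ a with hq
  have hq1 : 1 < q := Nat.one_lt_pow (by omega) hp.out.one_lt
  have hqK : (q : K) = 0 := by rw [hq, Nat.cast_pow, CharP.cast_eq_zero, zero_pow (by omega)]
  have hNK : ((q - 1 : ℕ) : K) ≠ 0 := by rw [Nat.cast_sub hq1.le]; simp [hqK]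
  obtain ⟨y, hy, hy0⟩ := exists_root_of_unity (K := K) (q - 1) hNK
  have hyq : y ^ q = y := by
    rw [← Nat.sub_add_cancel hq1.le, pow_succ, ← hy, pow_orderOf_eq_one, one_mul]
  set A : Matrix (Fin 3) (Fin 3) K := !![y, 1, 0; 0, y, 0; 0, 0, (y * y)⁻¹] with hA
  have hdet : A.det = 1 := by simp [hA, Matrix.det_fin_three]; field_simp
  obtain ⟨g, hg⟩ := exists_stab_twist ha hF ι σ hσ (P := 1) (P' := 1) Matrix.det_one (Matrix.one_mul 1) hdet (by
    rw [Matrix.one_mul, Matrix.mul_one]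
    ext i j
    fin_cases i <;> fin_cases j <;> simp [hA, hσ, ← hq, hyq, mul_pow, show q ≠ 0 by omega])
  exact ⟨g, hg.trans (orderOf_mixed hy hy0 one_ne_zero fun h => hNK ((CharP.cast_eq_zero_iff K p _).2 h))⟩

include ha hF ι hσ in
theorem exists_pqp1 : ∃ g : G2 F, orderOf g = p * (p ^ a + 1) := by
  set q := p ^ a with hq
  have hq1 : 1 < q := Nat.one_lt_pow (by omega) hp.out.one_lt
  have hqK : (q : K) = 0 := by rw [hq, Nat.cast_pow, CharP.cast_eq_zero, zero_pow (by omega)]
  have hNK : ((q + 1 : ℕ) : K) ≠ 0 := by push_cast; simp [hqK]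
  obtain ⟨y, hy, hy0⟩ := exists_root_of_unity (K := K) (q + 1) hNK
  have hyq : y ^ q = y⁻¹ := by
    refine eq_inv_of_mul_eq_one_left ?_
    rw [← pow_succ, ← hy, pow_orderOf_eq_one]
  obtain ⟨t, ht⟩ := IsAlgClosed.exists_pow_nat_eq (-(y * y)⁻¹) (show 0 < q - 1 by omega)
  have ht0 : t ≠ 0 := by
    intro h
    rw [h, zero_pow (by omega), eq_comm, neg_eq_zero, inv_eq_zero] at ht
    exact mul_ne_zero hy0 hy0 ht
  have htq : t ^ q = -t * (y * y)⁻¹ := by
    rw [← Nat.sub_add_cancel hq1.le, pow_succ, ht]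
    ring
  set A : Matrix (Fin 3) (Fin 3) K := !![y, t, 0; 0, y, 0; 0, 0, (y * y)⁻¹] with hA
  have hdet : A.det = 1 := by simp [hA, Matrix.det_fin_three]; field_simp
  set B : Matrix (Fin 3) (Fin 3) K := !![y⁻¹, 0, 0; -t * (y * y)⁻¹, y⁻¹, 0; 0, 0, y * y] with hB
  have hAB : Aᵀ * B = 1 := by
    ext i j
    fin_cases i <;> fin_cases j <;> simp [hA, hB, Matrix.mul_apply, Fin.sum_univ_three, hy0]
    all_goals (field_simp; try ring)
  have hsq : swapP K * swapP K = 1 := by
    ext i j; fin_cases i <;> fin_cases j <;> simp [swapP, Matrix.mul_apply, Fin.sum_univ_three]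
  obtain ⟨π, hπ, hπA⟩ := exists_pair (swapP K) (by simp [swapP, Matrix.det_fin_three])
  have hj : swapP K *ᵥ Pi.single 2 1 = -Pi.single 2 1 := by
    funext i; fin_cases i <;> simp [swapP]
  obtain ⟨g, hg⟩ := exists_orderOf_of_moves ha hF ι σ hσ
    (movesIdem_fixed_point ha σ hσ hπ hπA (by ext i j; fin_cases i <;> fin_cases j <;>
      simp [swapP, Matrix.mul_apply, Fin.sum_univ_three]) hj) hdet
    (Q := swapP K * B * swapP K)
    (fun D hD hDA => by rw [← adjugate_transpose_eq hdet hAB]; exact tau_conj hπ hπA hsq hD hDA) (by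
      ext i j
      fin_cases i <;> fin_cases j <;> simp [hA, hB, swapP, Matrix.mul_apply, Matrix.vecMul, dotProduct,
        Fin.sum_univ_three, hσ, ← hq, hyq, htq, mul_pow, inv_pow, show q ≠ 0 by omega])
  exact ⟨g, hg.trans (orderOf_mixed hy hy0 ht0 fun h => hNK ((CharP.cast_eq_zero_iff K p _).2 h))⟩

include ha hF ι hσ in
theorem exists_twelve (hp2 : p = 2) : ∃ g : G2 F, orderOf g = 12 := by
  subst hp2
  have h2 : (2 : K) = 0 := CharTwo.two_eq_zero
  obtain ⟨w, hw⟩ := IsAlgClosed.exists_root (Polynomial.X ^ 2 + Polynomial.X + 1 : Polynomial K) (by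
    have : (Polynomial.X ^ 2 + Polynomial.X + 1 : Polynomial K).degree = 2 := by compute_degree!
    rw [this]; decide)
  simp [Polynomial.IsRoot] at hw
  have hw3 : w ^ 3 = 1 := by linear_combination (w - 1) * hw
  have hw1 : w ≠ 1 := fun h => by
    rw [h] at hw
    exact one_ne_zero (α := K) (by linear_combination hw - h2)
  have hw0 : w ≠ 0 := fun h => by simp [h] at hw
  have hsq : σ w = w ∨ σ w = w + 1 := by
    have e := congrArg σ hw
    simp only [map_add, map_pow, map_one, map_zero] at e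
    have : (σ w - w) * (σ w - (w + 1)) = 0 := by linear_combination e + hw - (σ w * w + σ w + 1) * h2
    rcases mul_eq_zero.1 this with h | h
    · exact Or.inl (sub_eq_zero.1 h)
    · exact Or.inr (sub_eq_zero.1 h)
  let A : K → Matrix (Fin 3) (Fin 3) K := fun z => !![w, w, w * z; 0, w, w; 0, 0, w]
  have hdet : ∀ z, (A z).det = 1 := fun z => by
    simp [A, Matrix.det_fin_three]; linear_combination hw3
  have hord : ∀ z, orderOf (A z) = 12 := by
    intro z
    have hA2 : A z * A z = !![w ^ 2, 0, w ^ 2; 0, w ^ 2, 0; 0, 0, w ^ 2] := by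
      ext i j
      fin_cases i <;> fin_cases j <;> simp [A, Matrix.mul_apply, Fin.sum_univ_three]
      all_goals first | ring1 | linear_combination (w ^ 2) * h2 | linear_combination (w ^ 2 * z) * h2
    have hA4 : A z ^ 4 = Matrix.diagonal fun _ => w := by
      rw [show 4 = 2 + 2 from rfl, pow_add, pow_two, hA2]
      ext i j
      fin_cases i <;> fin_cases j <;> simp [Matrix.mul_apply, Fin.sum_univ_three]
      all_goals first | linear_combination w * hw3 | linear_combination (w ^ 4) * h2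
    have h6 : A z ^ 6 ≠ 1 := by
      intro e
      rw [show 6 = 4 + 2 from rfl, pow_add, pow_two, hA2, hA4] at e
      have := congrFun (congrFun e 0) 2
      simp [Matrix.diagonal_mul, hw0] at this
    have h4 : A z ^ 4 ≠ 1 := by
      intro e
      rw [hA4, ← Matrix.diagonal_one] at e
      exact hw1 (congrFun (Matrix.diagonal_injective e) 0)
    have h12 : A z ^ 12 = 1 := by
      rw [show 12 = 4 * 3 from rfl, pow_mul, hA4, Matrix.diagonal_pow, ← Matrix.diagonal_one]
      congr 1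
      funext i
      simp [hw3]
    have hd := orderOf_dvd_of_pow_eq_one h12
    have hn4 : ¬ orderOf (A z) ∣ 4 := fun h => h4 (orderOf_dvd_iff_pow_eq_one.1 h)
    have hn6 : ¬ orderOf (A z) ∣ 6 := fun h => h6 (orderOf_dvd_iff_pow_eq_one.1 h)
    have hle := Nat.le_of_dvd (by norm_num) hd
    interval_cases h : orderOf (A z) <;> omega
  rcases hsq with hσw | hσw
  · obtain ⟨g, hg⟩ := exists_stab_twist ha hF ι σ hσ (P := 1) (P' := 1) Matrix.det_one (Matrix.one_mul 1) (hdet 0) (by
      rw [Matrix.one_mul, Matrix.mul_one]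
      ext i j
      fin_cases i <;> fin_cases j <;> simp [A, hσw])
    exact ⟨g, hg.trans (hord 0)⟩
  · set B : Matrix (Fin 3) (Fin 3) K := !![w + 1, 0, 0; w + 1, w + 1, 0; (w + 1) * (w + 1), w + 1, w + 1] with hB
    have hAB : (A w)ᵀ * B = 1 := by
      ext i j
      fin_cases i <;> fin_cases j <;> simp [A, hB, Matrix.mul_apply, Fin.sum_univ_three]
      all_goals grind
    have hrev : revP K * revP K = 1 := by
      ext i j; fin_cases i <;> fin_cases j <;> simp [revP, Matrix.mul_apply, Fin.sum_univ_three]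
    obtain ⟨π, hπ, hπA⟩ := exists_pair (revP K) (by simp [revP, Matrix.det_fin_three])
    have hj : revP K *ᵥ Pi.single 1 1 = -Pi.single 1 1 := by
      funext i; fin_cases i <;> simp [revP]
    obtain ⟨g, hg⟩ := exists_orderOf_of_moves ha hF ι σ hσ
      (movesIdem_fixed_point ha σ hσ hπ hπA (by ext i j; fin_cases i <;> fin_cases j <;>
        simp [revP, Matrix.mul_apply, Fin.sum_univ_three]) hj) (hdet w)
      (Q := revP K * B * revP K)
      (fun D hD hDA => by rw [← adjugate_transpose_eq (hdet w) hAB]; exact tau_conj hπ hπA hrev hD hDA) (by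
        ext i j
        fin_cases i <;> fin_cases j <;> simp [A, hB, revP, Matrix.mul_apply, Matrix.vecMul, dotProduct,
          Fin.sum_univ_three, hσw]
        all_goals grind)
    exact ⟨g, hg.trans (hord w)⟩

end galois

end

end CfsgLib.G2Octonion
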