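import Cfsg.Agent.G2Octonion.Twist
import Cfsg.Agent.Lang.Basic

/-!
Twisted forms: a torus element over an algebraically closed field that the Frobenius map conjugates by a given
automorphism is the image of an element of the finite group.
-/

set_option autoImplicit false
set_option linter.style.haveILetI false

namespace CfsgLib.G2Octonion

open Cfsg.Lie Matrix CfsgLib.SylowTwoAb.Oct

noncomputable section

variable {K : Type*} [Field K]

theorem ext_parts {x y : Fin 8 → K} (h0 : x 0 = y 0) (h7 : x 7 = y 7) (hA : zA K x = zA K y)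
    (hB : zB K x = zB K y) : x = y := by
  rw [decomp x, decomp y, h0, h7, hA, hB]

theorem cross3_mulVec (A : Matrix (Fin 3) (Fin 3) K) (u v : Fin 3 → K) :
    cross3 (A *ᵥ u) (A *ᵥ v) = A.adjugateᵀ *ᵥ cross3 u v := by
  rw [Matrix.adjugate_fin_three]
  funext i
  fin_cases i <;> simp [cross3, Matrix.mulVec, dotProduct, Fin.sum_univ_three] <;> ring

theorem cross3_adjugate_mulVec (A : Matrix (Fin 3) (Fin 3) K) (u v : Fin 3 → K) :
    cross3 (A.adjugateᵀ *ᵥ u) (A.adjugateᵀ *ᵥ v) = A.det • (A *ᵥ cross3 u v) := by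
  rw [Matrix.adjugate_fin_three, Matrix.det_fin_three]
  funext i
  fin_cases i <;> simp [cross3, Matrix.mulVec, dotProduct, Fin.sum_univ_three] <;> ring

theorem dot3_adjugate (A : Matrix (Fin 3) (Fin 3) K) (u v : Fin 3 → K) :
    dot3 (A *ᵥ u) (A.adjugateᵀ *ᵥ v) = A.det * dot3 u v ∧ dot3 (A.adjugateᵀ *ᵥ v) (A *ᵥ u) = A.det * dot3 v u := by
  rw [Matrix.adjugate_fin_three, Matrix.det_fin_three]
  constructor <;> simp [dot3, Matrix.mulVec, dotProduct, Fin.sum_univ_three] <;> ring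

/-- The linear map of a pair on the two Peirce spaces. -/
def pairMap (A B : Matrix (Fin 3) (Fin 3) K) : (Fin 8 → K) →ₗ[K] (Fin 8 → K) where
  toFun x := ![x 0, (A *ᵥ zA K x) 0, (A *ᵥ zA K x) 1, (A *ᵥ zA K x) 2, (B *ᵥ zB K x) 0, (B *ᵥ zB K x) 1,
    (B *ᵥ zB K x) 2, x 7]
  map_add' x y := by
    funext i
    fin_cases i <;> simp [zA, zB, Matrix.mulVec, dotProduct, Fin.sum_univ_three] <;> ring
  map_smul' a x := by
    funext i
    fin_cases i <;> simp [zA, zB, Matrix.mulVec, dotProduct, Fin.sum_univ_three] <;> ring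

theorem pairMap_parts (A B : Matrix (Fin 3) (Fin 3) K) (x : Fin 8 → K) :
    pairMap A B x 0 = x 0 ∧ pairMap A B x 7 = x 7 ∧ zA K (pairMap A B x) = A *ᵥ zA K x ∧
      zB K (pairMap A B x) = B *ᵥ zB K x :=
  ⟨rfl, rfl, funext fun i => by fin_cases i <;> rfl, funext fun i => by fin_cases i <;> rfl⟩

theorem zornMul_parts (x y : Fin 8 → K) :
    zornMul x y 0 = x 0 * y 0 + dot3 (zA K x) (zB K y) ∧ zornMul x y 7 = dot3 (zB K x) (zA K y) + x 7 * y 7 ∧
      zA K (zornMul x y) = x 0 • zA K y + y 7 • zA K x - cross3 (zB K x) (zB K y) ∧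
      zB K (zornMul x y) = y 0 • zB K x + x 7 • zB K y + cross3 (zA K x) (zA K y) :=
  ⟨rfl, rfl, funext fun i => by fin_cases i <;> rfl, funext fun i => by fin_cases i <;> rfl⟩

/-- Every matrix of determinant one acts on the octonions fixing the idempotent. -/
theorem exists_pair (A : Matrix (Fin 3) (Fin 3) K) (hA : A.det = 1) :
    ∃ g : G2 K, app g (e1 K) = e1 K ∧ partA g = A := by
  have hinv : ∀ x, pairMap A.adjugate Aᵀ (pairMap A A.adjugateᵀ x) = x := by
    intro x
    obtain ⟨h0, h7, hA', hB'⟩ := pairMap_parts A A.adjugateᵀ x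
    obtain ⟨k0, k7, kA, kB⟩ := pairMap_parts A.adjugate Aᵀ (pairMap A A.adjugateᵀ x)
    refine ext_parts (k0.trans h0) (k7.trans h7) ?_ ?_
    · rw [kA, hA', Matrix.mulVec_mulVec, Matrix.adjugate_mul, hA, one_smul, Matrix.one_mulVec]
    · rw [kB, hB', Matrix.mulVec_mulVec, ← Matrix.transpose_mul, Matrix.adjugate_mul, hA, one_smul,
        Matrix.transpose_one, Matrix.one_mulVec]
  have hmul : ∀ x y, pairMap A A.adjugateᵀ (zornMul x y) =
      zornMul (pairMap A A.adjugateᵀ x) (pairMap A A.adjugateᵀ y) := by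
    intro x y
    obtain ⟨x0, x7, xA, xB⟩ := pairMap_parts A A.adjugateᵀ x
    obtain ⟨y0, y7, yA, yB⟩ := pairMap_parts A A.adjugateᵀ y
    obtain ⟨p0, p7, pA, pB⟩ := pairMap_parts A A.adjugateᵀ (zornMul x y)
    obtain ⟨m0, m7, mA, mB⟩ := zornMul_parts (pairMap A A.adjugateᵀ x) (pairMap A A.adjugateᵀ y)
    obtain ⟨z0, z7, zA', zB'⟩ := zornMul_parts x y
    refine ext_parts ?_ ?_ ?_ ?_
    · rw [p0, m0, z0, x0, y0, xA, yB, (dot3_adjugate A _ _).1, hA, one_mul]
    · rw [p7, m7, z7, x7, y7, xB, yA, (dot3_adjugate A _ _).2, hA, one_mul]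
    · rw [pA, mA, zA', x0, y7, xA, yA, xB, yB, cross3_adjugate_mulVec, hA, one_smul, Matrix.mulVec_sub,
        Matrix.mulVec_add, Matrix.mulVec_smul, Matrix.mulVec_smul]
    · rw [pB, mB, zB', x7, y0, xA, yA, xB, yB, cross3_mulVec, Matrix.mulVec_add, Matrix.mulVec_add,
        Matrix.mulVec_smul, Matrix.mulVec_smul]
  obtain ⟨g, hg⟩ := NormalCover.exists_aut (pairMap A A.adjugateᵀ) (pairMap A.adjugate Aᵀ) hinv hmul
  refine ⟨g, ?_, ?_⟩
  · rw [hg]
    obtain ⟨h0, h7, hA', hB'⟩ := pairMap_parts A A.adjugateᵀ (e1 K)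
    have ha : zA K (e1 K) = 0 := by funext i; fin_cases i <;> simp [zA, e1]
    have hb : zB K (e1 K) = 0 := by funext i; fin_cases i <;> simp [zB, e1]
    exact ext_parts h0 h7 (by rw [hA', ha, Matrix.mulVec_zero]) (by rw [hB', hb, Matrix.mulVec_zero])
  · refine Matrix.toLin'.injective (LinearMap.ext fun u => ?_)
    simp only [Matrix.toLin'_apply]
    rw [← zA_app_inA, hg, (pairMap_parts _ _ _).2.2.1]
    congr 1
    funext i
    fin_cases i <;> simp [zA, inA]

variable [IsAlgClosed K] {p : ℕ} [Fact p.Prime] [CharP K p]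

/-- Lang's theorem for the special linear group of rank three. -/
theorem lang_three {a : ℕ} (ha : 1 ≤ a) (σ : K ≃+* K) (hσ : ∀ x, σ x = x ^ p ^ a)
    {M : Matrix (Fin 3) (Fin 3) K} (hM : M.det = 1) :
    ∃ P : Matrix (Fin 3) (Fin 3) K, P.det = 1 ∧ P.map σ = M * P := by
  classical
  have hMinv : M.adjugate * M = 1 := by rw [Matrix.adjugate_mul, hM, one_smul]
  have hMinv' : M * M.adjugate = 1 := by rw [Matrix.mul_adjugate, hM, one_smul]
  have hfr : ∀ x : K, iterateFrobenius K p a x = σ x := fun x => by rw [iterateFrobenius_def, hσ]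
  let φ : (Fin 3 → K) →ₛₗ[iterateFrobenius K p a] (Fin 3 → K) :=
    { toFun := fun v => M.adjugate *ᵥ fun i => σ (v i)
      map_add' := fun v w => by
        rw [← Matrix.mulVec_add]; congr 1; funext i; simp
      map_smul' := fun c v => by
        rw [hfr, ← Matrix.mulVec_smul]; congr 1; funext i; simp }
  have hφ : Function.Injective φ := by
    intro v w h
    have h2 := congrArg (M *ᵥ ·) h
    simp only [φ, LinearMap.coe_mk, AddHom.coe_mk, Matrix.mulVec_mulVec, hMinv', Matrix.one_mulVec] at h2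
    funext i
    exact σ.injective (congrFun h2 i)
  obtain ⟨b, hb, hspan, hli⟩ := exists_linearIndependent K {v | φ v = v}
  rw [Lang.span_fixed_eq_top ha φ hφ] at hspan
  haveI : Fintype b := hli.setFinite.fintype
  have hcard : Fintype.card b = 3 := by
    have h1 := Module.finrank_eq_card_basis (Module.Basis.mk hli (by rw [Subtype.range_coe, hspan]))
    rw [Module.finrank_fin_fun] at h1
    exact h1.symm
  let f : Fin 3 ≃ b := (Fintype.equivFinOfCardEq hcard).symm
  let P : Matrix (Fin 3) (Fin 3) K := Matrix.of fun i j => ((f j : b) : Fin 3 → K) i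
  have hunit : IsUnit P := by
    rw [← Matrix.linearIndependent_cols_iff_isUnit]
    exact hli.comp f f.injective
  have hP0 : P.det ≠ 0 := ((Matrix.isUnit_iff_isUnit_det P).1 hunit).ne_zero
  have hPσ : P.map σ = M * P := by
    ext i j
    have h := hb (f j).2
    have h2 := congrArg (M *ᵥ ·) (h : φ _ = _)
    simp only [φ, LinearMap.coe_mk, AddHom.coe_mk, Matrix.mulVec_mulVec, hMinv', Matrix.one_mulVec] at h2
    exact congrFun h2 i
  have hdet : σ P.det = P.det := by
    rw [RingEquiv.map_det, RingEquiv.mapMatrix_apply, hPσ, Matrix.det_mul, hM, one_mul]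
  refine ⟨P * Matrix.diagonal ![P.det⁻¹, 1, 1], ?_, ?_⟩
  · rw [Matrix.det_mul, Matrix.det_diagonal, Fin.prod_univ_three]
    simp [hP0]
  · rw [Matrix.map_mul, hPσ, Matrix.diagonal_map (map_zero σ), Matrix.mul_assoc]
    congr 2
    refine congrArg _ (funext fun i => ?_)
    fin_cases i <;> simp [map_inv₀, hdet]

/-- Lang's theorem for an automorphism that moves an idempotent as the Frobenius map does. -/
theorem lang_idem {a : ℕ} (ha : 1 ≤ a) (σ : K ≃+* K) (hσ : ∀ x, σ x = x ^ p ^ a) {W : G2 K} {e : Fin 8 → K}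
    (ht : tr e = 1) (hn : nQ K e = 0) (he : (σ : K →+* K) ∘ e = app W e) : ∃ h : G2 K, autG σ h = W * h := by
  obtain ⟨h1, hh1⟩ := exists_move ht hn
  set W1 := autG σ h1 * W * h1⁻¹ with hW1
  have hfix : app W1 (e1 K) = e1 K := by
    rw [hW1, app_mul_group, app_mul_group, ← hh1, app_inv_app, ← he, app_autG, hh1, comp_e1]
  obtain ⟨P, hP, hPσ⟩ := lang_three (p := p) ha σ hσ (det_partA hfix)
  obtain ⟨h2, hh2, hA⟩ := exists_pair P hP
  refine ⟨h1⁻¹ * h2, ?_⟩
  have hσ2 : app (autG σ h2) (e1 K) = e1 K := by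
    rw [← comp_e1 (σ : K →+* K), app_autG, hh2]
  have key : autG σ h2 = W1 * h2 := by
    refine eq_of_partA hσ2 (by rw [app_mul_group, hh2, hfix]) ?_
    rw [partA_autG, partA_mul hh2, hA, hPσ]
  rw [map_mul, map_inv, key, hW1]
  group

end

end CfsgLib.G2Octonion
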