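import Cfsg.Agent.G2Octonion.Stab
import Mathlib.LinearAlgebra.Eigenspace.Zero
import Mathlib.Algebra.CharP.Lemmas

/-!
Unipotent matrices on invariant subspaces.
-/

set_option autoImplicit false
set_option linter.style.haveILetI false

namespace CfsgLib.G2Octonion

open Matrix CfsgLib.SylowTwoAb.Oct

variable {K : Type*} [Field K] {n : Type*} [Fintype n] [DecidableEq n]

theorem restrict_pow_apply (N : Matrix n n K) (W : Submodule K (n → K)) (hW : ∀ w ∈ W, N *ᵥ w ∈ W) (d : ℕ)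
    (w : W) : (((Matrix.toLin' N).restrict (p := W) (q := W) (fun x hx => by simpa using hW x hx)) ^ d) w =
      (N ^ d) *ᵥ (w : n → K) := by
  induction d with
  | zero => simp
  | succ d ih =>
    rw [pow_succ', pow_succ', Module.End.mul_apply, LinearMap.coe_restrict_apply, ih, Matrix.toLin'_apply,
      Matrix.mulVec_mulVec]

theorem isNilpotent_restrict {N : Matrix n n K} (hN : IsNilpotent N) (W : Submodule K (n → K))
    (hW : ∀ w ∈ W, N *ᵥ w ∈ W) :
    IsNilpotent ((Matrix.toLin' N).restrict (p := W) (q := W) (fun x hx => by simpa using hW x hx)) := by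
  obtain ⟨k, hk⟩ := hN
  refine ⟨k, LinearMap.ext fun w => Subtype.ext ?_⟩
  rw [restrict_pow_apply N W hW k w, hk]
  simp

/-- A nilpotent matrix is killed on an invariant subspace by the power of its dimension. -/
theorem pow_mulVec_eq_zero {N : Matrix n n K} (hN : IsNilpotent N) (W : Submodule K (n → K))
    (hW : ∀ w ∈ W, N *ᵥ w ∈ W) {d : ℕ} (hd : Module.finrank K W ≤ d) : ∀ w ∈ W, (N ^ d) *ᵥ w = 0 := by
  intro w hw
  set f := (Matrix.toLin' N).restrict (p := W) (q := W) (fun x hx => by simpa using hW x hx) with hf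
  have h := f.aeval_self_charpoly
  rw [(isNilpotent_restrict hN W hW).charpoly_eq_X_pow_finrank, map_pow, Polynomial.aeval_X] at h
  have h2 : f ^ d = 0 := by
    rw [← Nat.sub_add_cancel hd, pow_add, h, mul_zero]
  have h3 := restrict_pow_apply N W hW d ⟨w, hw⟩
  rw [← hf, h2] at h3
  simpa using h3.symm

variable (p : ℕ) [Fact p.Prime] [CharP K p]

theorem sub_one_pow_prime_pow [Nonempty n] (U : Matrix n n K) (k : ℕ) : (U - 1) ^ p ^ k = U ^ p ^ k - 1 := by
  have := sub_pow_char_pow_of_commute (R := Matrix n n K) p k (x := U) (y := 1) (Commute.one_right U)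
  simpa using this

theorem isNilpotent_sub_one [Nonempty n] {U : Matrix n n K} {k : ℕ} (h : U ^ p ^ k = 1) : IsNilpotent (U - 1) :=
  ⟨p ^ k, by rw [sub_one_pow_prime_pow, h, sub_self]⟩

/-- If `(U - 1) ^ d` kills a vector and `d ≤ p ^ k`, then `U ^ (p ^ k)` fixes it. -/
theorem pow_fix [Nonempty n] {U : Matrix n n K} {d k : ℕ} (hd : d ≤ p ^ k) {w : n → K}
    (h : ((U - 1) ^ d) *ᵥ w = 0) : (U ^ p ^ k) *ᵥ w = w := by
  rw [← sub_eq_zero, ← show ((U - 1) ^ p ^ k) *ᵥ w = (U ^ p ^ k) *ᵥ w - w by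
    rw [sub_one_pow_prime_pow, Matrix.sub_mulVec, Matrix.one_mulVec], ← Nat.sub_add_cancel hd, pow_add,
    ← Matrix.mulVec_mulVec, h, Matrix.mulVec_zero]

omit [Fact p.Prime] [CharP K p] in
/-- A unipotent isometry of a space of dimension four in odd characteristic has no block of size four. -/
theorem cube_eq_zero (h2 : (2 : K) ≠ 0) {U : Matrix (Fin 8) (Fin 8) K}
    (hiso : ∀ x y, pol (U *ᵥ x) (U *ᵥ y) = pol x y) (hN : IsNilpotent (U - 1))
    (W : Submodule K (Fin 8 → K)) (hW : ∀ w ∈ W, U *ᵥ w ∈ W) (hd : Module.finrank K W ≤ 4)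
    (hnd : ∀ w ∈ W, (∀ y ∈ W, pol w y = 0) → w = 0) : ∀ w ∈ W, ((U - 1) ^ 3) *ᵥ w = 0 := by
  set N := U - 1 with hNdef
  have hUN : ∀ x, U *ᵥ x = x + N *ᵥ x := fun x => by rw [hNdef, Matrix.sub_mulVec, Matrix.one_mulVec]; abel
  have hNW : ∀ w ∈ W, N *ᵥ w ∈ W := fun w hw => by
    rw [hNdef, Matrix.sub_mulVec, Matrix.one_mulVec]; exact W.sub_mem (hW w hw) hw
  have hNkW : ∀ (k : ℕ), ∀ w ∈ W, (N ^ k) *ᵥ w ∈ W := fun k => by
    induction k with
    | zero => intro w hw; simpa using hw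
    | succ k ih => intro w hw; rw [pow_succ', ← Matrix.mulVec_mulVec]; exact hNW _ (ih w hw)
  have h4 := pow_mulVec_eq_zero hN W hNW hd
  have hadj : ∀ (k : ℕ) (x y : Fin 8 → K), pol ((N ^ k) *ᵥ x) ((U ^ k) *ᵥ y) =
      (-1) ^ k * pol x ((N ^ k) *ᵥ y) := by
    intro k
    induction k with
    | zero => simp
    | succ k ih =>
      intro x y
      have h1 : ∀ a b, pol (N *ᵥ a) (U *ᵥ b) = -pol a (N *ᵥ b) := fun a b => by
        have e := hiso a b
        rw [hUN a, pol_add_left, pol_comm a (U *ᵥ b), hUN b, pol_add_left, pol_comm b a, pol_comm (N *ᵥ b) a] at e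
        rw [hUN b]
        linear_combination e
      rw [pow_succ' N, ← Matrix.mulVec_mulVec, pow_succ' U, ← Matrix.mulVec_mulVec, h1]
      have hc : N *ᵥ ((U ^ k) *ᵥ y) = (U ^ k) *ᵥ (N *ᵥ y) := by
        rw [Matrix.mulVec_mulVec, Matrix.mulVec_mulVec]
        congr 1
        exact ((Commute.refl U).sub_left (Commute.one_left U)).pow_right k |>.eq
      rw [hc, ih, pow_succ (-1 : K), ← Matrix.mulVec_mulVec, show N *ᵥ ((N ^ k) *ᵥ y) = (N ^ k) *ᵥ (N *ᵥ y) by
        rw [Matrix.mulVec_mulVec, Matrix.mulVec_mulVec, ← pow_succ', pow_succ]]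
      ring
  have hskew : ∀ x ∈ W, ∀ y, pol ((N ^ 3) *ᵥ x) y = -pol x ((N ^ 3) *ᵥ y) := by
    intro x hx y
    have hfix : U *ᵥ ((N ^ 3) *ᵥ x) = (N ^ 3) *ᵥ x := by
      rw [hUN, Matrix.mulVec_mulVec, ← pow_succ', h4 x hx, add_zero]
    have hk : ∀ k : ℕ, (U ^ k) *ᵥ ((N ^ 3) *ᵥ x) = (N ^ 3) *ᵥ x := fun k => by
      induction k with
      | zero => simp
      | succ k ih => rw [pow_succ', ← Matrix.mulVec_mulVec, ih, hfix]
    have h3 : pol ((U ^ 3) *ᵥ ((N ^ 3) *ᵥ x)) ((U ^ 3) *ᵥ y) = pol ((N ^ 3) *ᵥ x) y := by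
      simp only [pow_succ', pow_zero, mul_one, ← Matrix.mulVec_mulVec, hiso]
    rw [hk 3, hadj] at h3
    rw [← h3]
    ring
  by_contra hcon
  push Not at hcon
  obtain ⟨x0, hx0, hw0⟩ := hcon
  let v : Fin 4 → W := fun i => ⟨(N ^ (i : ℕ)) *ᵥ x0, hNkW _ _ hx0⟩
  have hpow : ∀ k, 4 ≤ k → (N ^ k) *ᵥ x0 = 0 := fun k hk => by
    rw [← Nat.sub_add_cancel hk, pow_add, ← Matrix.mulVec_mulVec, h4 x0 hx0, Matrix.mulVec_zero]
  have happ : ∀ (c : Fin 4 → K) (k : ℕ), (N ^ k) *ᵥ ((∑ i, c i • v i : W) : Fin 8 → K) =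
      c 0 • (N ^ k) *ᵥ x0 + c 1 • (N ^ (k + 1)) *ᵥ x0 + c 2 • (N ^ (k + 2)) *ᵥ x0 + c 3 • (N ^ (k + 3)) *ᵥ x0 := by
    intro c k
    simp only [v, Fin.sum_univ_four, Submodule.coe_add, Submodule.coe_smul, Matrix.mulVec_add,
      Matrix.mulVec_smul, Matrix.mulVec_mulVec, ← pow_add]
    simp
  have hli : LinearIndependent K v := by
    rw [Fintype.linearIndependent_iff]
    intro c hc
    have hz : ∀ k, (N ^ k) *ᵥ ((∑ i, c i • v i : W) : Fin 8 → K) = 0 := fun k => by rw [hc]; simp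
    have e3 := hz 3
    rw [happ, hpow 4 le_rfl, hpow 5 (by norm_num), hpow 6 (by norm_num)] at e3
    have c0 : c 0 = 0 := by simpa [hw0] using e3
    have e2 := hz 2
    rw [happ, hpow 4 le_rfl, hpow 5 (by norm_num), c0] at e2
    have c1 : c 1 = 0 := by simpa [hw0] using e2
    have e1 := hz 1
    rw [happ, hpow 4 le_rfl, c0, c1] at e1
    have c2 : c 2 = 0 := by simpa [hw0] using e1
    have e0 := hz 0
    rw [happ, c0, c1, c2] at e0
    have c3 : c 3 = 0 := by simpa [hw0] using e0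
    intro i
    fin_cases i <;> assumption
  have hfr : Module.finrank K W = 4 := le_antisymm hd (by simpa using hli.fintype_card_le_finrank)
  have hsp := hli.span_eq_top_of_card_eq_finrank (by simp [hfr])
  have himg : ∀ y ∈ W, ∃ c : K, (N ^ 3) *ᵥ y = c • (N ^ 3) *ᵥ x0 := by
    intro y hy
    have : (⟨y, hy⟩ : W) ∈ Submodule.span K (Set.range v) := by rw [hsp]; trivial
    obtain ⟨c, hc⟩ := (Submodule.mem_span_range_iff_exists_fun K).1 this
    refine ⟨c 0, ?_⟩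
    have hy' : y = ((∑ i, c i • v i : W) : Fin 8 → K) := by rw [hc]
    rw [hy', happ, hpow 4 le_rfl, hpow 5 (by norm_num), hpow 6 (by norm_num)]
    simp
  refine hw0 (hnd _ (hNkW 3 x0 hx0) fun y hy => ?_)
  have h00 : pol ((N ^ 3) *ᵥ x0) x0 = 0 := by
    have e := hskew x0 hx0 x0
    rw [pol_comm x0] at e
    have : (2 : K) * pol ((N ^ 3) *ᵥ x0) x0 = 0 := by linear_combination e
    exact (mul_eq_zero.1 this).resolve_left h2
  obtain ⟨c, hc⟩ := himg y hy
  rw [hskew x0 hx0 y, hc, pol_comm, pol_smul_left, h00, mul_zero, neg_zero]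

end CfsgLib.G2Octonion
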