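import Cfsg.Agent.G2Octonion.Eigen
import Mathlib.LinearAlgebra.Matrix.SchurComplement

/-!
A semisimple automorphism fixes an element generating a separable quadratic subalgebra.
-/

set_option autoImplicit false
set_option linter.style.haveILetI false

namespace CfsgLib.G2Octonion

open Cfsg.Lie Matrix CfsgLib.SylowTwoAb.Oct

noncomputable section

variable {F : Type*} [Field F]

/-- The Gram matrix of the polar form. -/
def gram (F : Type*) [Field F] : Matrix (Fin 8) (Fin 8) F :=
  Matrix.of ![![0, 0, 0, 0, 0, 0, 0, 1], ![0, 0, 0, 0, -1, 0, 0, 0], ![0, 0, 0, 0, 0, -1, 0, 0],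
    ![0, 0, 0, 0, 0, 0, -1, 0], ![0, -1, 0, 0, 0, 0, 0, 0], ![0, 0, -1, 0, 0, 0, 0, 0],
    ![0, 0, 0, -1, 0, 0, 0, 0], ![1, 0, 0, 0, 0, 0, 0, 0]]

theorem gram_mulVec (y : Fin 8 → F) : gram F *ᵥ y = ![y 7, -y 4, -y 5, -y 6, -y 1, -y 2, -y 3, y 0] := by
  funext i
  fin_cases i <;> simp [gram, Matrix.mulVec, dotProduct, Fin.sum_univ_eight]

theorem pol_eq_gram (x y : Fin 8 → F) : pol x y = x ⬝ᵥ (gram F *ᵥ y) := by
  rw [gram_mulVec]
  simp [pol, dotProduct, Fin.sum_univ_eight]
  ring

theorem det_gram_ne : (gram F).det ≠ 0 := by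
  have h : gram F * gram F = 1 := Matrix.toLin'.injective (LinearMap.ext fun y => by
    simp only [Matrix.toLin'_apply, ← Matrix.mulVec_mulVec, gram_mulVec]
    funext i
    fin_cases i <;> simp)
  intro h0
  have := congrArg Matrix.det h
  rw [Matrix.det_mul, h0, Matrix.det_one, mul_zero] at this
  exact zero_ne_one this

theorem tr_one8 : tr (one8 F) = 2 := by
  show (1 : F) + 1 = 2
  norm_num

theorem tr_sub_smul (y : Fin 8 → F) (c : F) : tr (y - c • one8 F) = tr y - c * 2 := by
  rw [← tr_one8]
  simp only [tr, Pi.sub_apply, Pi.smul_apply, smul_eq_mul]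
  ring

/-- An automorphism of determinant one fixes a non-zero element of trace zero, in odd characteristic. -/
theorem exists_fix_trace_zero (h2 : (2 : F) ≠ 0) (s : G2 F) (hdet : (mat s).det = 1) :
    ∃ x : Fin 8 → F, x ≠ 0 ∧ tr x = 0 ∧ app s x = x := by
  classical
  set P : Matrix (Fin 8) (Fin 8) F :=
    (2⁻¹ : F) • (replicateCol (Fin 1) (one8 F) * replicateRow (Fin 1) (![1, 0, 0, 0, 0, 0, 0, 1] : Fin 8 → F)) with hP
  have hPv : ∀ x, P *ᵥ x = (tr x / 2) • one8 F := by
    intro x
    have hr : replicateRow (Fin 1) (![1, 0, 0, 0, 0, 0, 0, 1] : Fin 8 → F) *ᵥ x = fun _ => tr x := by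
      funext u
      simp [Matrix.mulVec, dotProduct, Fin.sum_univ_eight, tr]
    rw [hP, Matrix.smul_mulVec, ← Matrix.mulVec_mulVec, hr]
    funext i
    simp [Matrix.mulVec, dotProduct]
    ring
  set M := mat s - 1 + P with hM
  set S := mat s with hS
  clear_value P M
  have hMv : ∀ x, M *ᵥ x = app s x - x + (tr x / 2) • one8 F := fun x => by
    rw [hM, Matrix.add_mulVec, Matrix.sub_mulVec, Matrix.one_mulVec, hPv]
  have hadj : Mᵀ * (gram F * S) = gram F * (1 - S + P) := by
    ext i j
    have key : ∀ x y, pol (M *ᵥ x) (S *ᵥ y) = pol x ((1 - S + P) *ᵥ y) := by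
      intro x y
      rw [hMv, Matrix.add_mulVec, Matrix.sub_mulVec, Matrix.one_mulVec, hPv, pol_add_left, pol_sub_left,
        pol_smul_left, pol_one, pol_add_right, pol_sub_right]
      show pol (app s x) (app s y) - pol x (app s y) + tr x / 2 * tr (app s y) =
        pol x y - pol x (app s y) + pol x ((tr y / 2) • one8 F)
      rw [app_pol', app_tr', pol_comm x ((tr y / 2) • one8 F), pol_smul_left, pol_one]
      ring
    have hmat : ∀ y : Fin 8 → F, (Mᵀ * (gram F * S)) *ᵥ y = (gram F * (1 - S + P)) *ᵥ y := fun y =>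
      funext fun i => by
        have h := key (Pi.single i 1) y
        rw [pol_eq_gram, pol_eq_gram, single_dotProduct, one_mul, dotProduct_comm, Matrix.dotProduct_mulVec,
          ← Matrix.mulVec_transpose, dotProduct_single, mul_one, Matrix.mulVec_mulVec, Matrix.mulVec_mulVec,
          Matrix.mulVec_mulVec] at h
        rw [Matrix.mul_assoc] at h
        exact h
    have := congrFun (hmat (Pi.single j 1)) i
    rw [Matrix.mulVec_single_one, Matrix.mulVec_single_one] at this
    exact this
  have hPP : P * P = P := Matrix.toLin'.injective (LinearMap.ext fun x => by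
    simp only [Matrix.toLin'_apply, ← Matrix.mulVec_mulVec, hPv]
    congr 1
    rw [show tr ((tr x / 2) • one8 F) = tr x / 2 * tr (one8 F) by simp only [tr, Pi.smul_apply, smul_eq_mul]; ring,
      tr_one8, mul_div_assoc, div_self h2, mul_one])
  have hSP : S * P = P := Matrix.toLin'.injective (LinearMap.ext fun x => by
    simp only [Matrix.toLin'_apply, ← Matrix.mulVec_mulVec, hPv, Matrix.mulVec_smul]
    exact congrArg _ (app_one s))
  have hneg : 1 - S + P = -(M * (1 - (2 : F) • P)) := by
    rw [hM, Matrix.mul_sub, Matrix.mul_one, Matrix.mul_smul, Matrix.add_mul, Matrix.sub_mul, Matrix.one_mul, hPP, hSP]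
    module
  have hdP : (1 - (2 : F) • P).det = -1 := by
    have h : (2 : F) • P = replicateCol (Fin 1) (one8 F) *
        replicateRow (Fin 1) (![1, 0, 0, 0, 0, 0, 0, 1] : Fin 8 → F) := by
      rw [hP, smul_smul, mul_inv_cancel₀ h2, one_smul]
    rw [h, sub_eq_add_neg, ← Matrix.neg_mul, show -replicateCol (Fin 1) (one8 F) =
      replicateCol (Fin 1) (-one8 F) from rfl, Matrix.det_one_add_mul_comm, Matrix.det_fin_one]
    rw [Matrix.add_apply, Matrix.one_apply_eq, Matrix.mul_apply, Fin.sum_univ_eight]
    simp only [replicateRow_apply, replicateCol_apply, Pi.neg_apply, one8, Matrix.cons_val, neg_zero, mul_zero,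
      add_zero, one_mul]
    norm_num
  have hd := congrArg Matrix.det hadj
  rw [Matrix.det_mul, Matrix.det_transpose, Matrix.det_mul, Matrix.det_mul, hdet, mul_one, hneg, Matrix.det_neg,
    Matrix.det_mul, hdP, Fintype.card_fin, Even.neg_one_pow ⟨4, rfl⟩, one_mul] at hd
  have hM0 : M.det = 0 := by
    have : M.det * (gram F).det * 2 = 0 := by linear_combination hd
    exact (mul_eq_zero.1 ((mul_eq_zero.1 this).resolve_right h2)).resolve_right det_gram_ne
  obtain ⟨x, hx, hx0⟩ := Matrix.exists_mulVec_eq_zero_iff.2 hM0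
  rw [hMv] at hx0
  have ht : tr x = 0 := by
    have e := congrArg tr hx0
    have hs := app_tr' s x
    have e2 : tr (app s x) - tr x + tr x / 2 * tr (one8 F) = 0 := by
      have hz : tr (0 : Fin 8 → F) = 0 := by simp only [tr, Pi.zero_apply, add_zero]
      rw [← hz, ← e]
      simp only [tr, Pi.add_apply, Pi.sub_apply, Pi.smul_apply, smul_eq_mul]
      ring
    rwa [tr_one8, div_mul_cancel₀ _ h2, hs, sub_self, zero_add] at e2
  refine ⟨x, hx, ht, ?_⟩
  rwa [ht, zero_div, zero_smul, add_zero, sub_eq_zero] at hx0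

/-- A semisimple automorphism fixes an element generating a separable quadratic subalgebra. -/
theorem exists_disc (s : G2 F) (hdet : (mat s).det = 1) {m : ℕ} (hs : s ^ m = 1) (hm : (m : F) ≠ 0) :
    ∃ z : Fin 8 → F, app s z = z ∧ tr z ^ 2 - 4 * nQ F z ≠ 0 := by
  by_cases h2 : (2 : F) = 0
  · by_contra hcon
    push Not at hcon
    have h4 : (4 : F) = 0 := by linear_combination 2 * h2
    have hone : one8 F ∈ fixSp s := mem_fixSp.2 (app_one s)
    have h := nondeg_fix hs hm hone fun y hy => by
      have := hcon y (mem_fixSp.1 hy)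
      rw [h4, zero_mul, sub_zero] at this
      rw [pol_one]
      exact pow_eq_zero_iff two_ne_zero |>.1 this
    simpa [one8] using congrFun h 0
  · obtain ⟨x, hx0, hxt, hx⟩ := exists_fix_trace_zero h2 s hdet
    by_contra hcon
    push Not at hcon
    have hq : ∀ y, app s y = y → tr y = 0 → nQ F y = 0 := fun y hy ht => by
      have := hcon y hy
      rw [ht] at this
      have h4 : (4 : F) ≠ 0 := by
        rw [show (4 : F) = 2 * 2 by norm_num]; exact mul_ne_zero h2 h2
      exact (mul_eq_zero.1 (show (4 : F) * nQ F y = 0 by linear_combination -this)).resolve_left h4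
    refine hx0 (nondeg_fix hs hm (mem_fixSp.2 hx) fun y hy => ?_)
    set y' := y - (tr y / 2) • one8 F with hy'
    have hy'f : app s y' = y' := by
      rw [hy', sub_eq_add_neg, app_add', ← neg_smul, app_smul', app_one, mem_fixSp.1 hy]
    have hy't : tr y' = 0 := by
      rw [hy', tr_sub_smul, div_mul_cancel₀ _ h2, sub_self]
    have hsum : tr (x + y') = 0 := by
      simp only [tr, Pi.add_apply] at hxt hy't ⊢
      linear_combination hxt + hy't
    have h := nQ_add' x y'
    rw [hq _ (by rw [app_add', hx, hy'f]) hsum, hq x hx hxt, hq y' hy'f hy't] at h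
    have hpy : pol x y = pol x y' := by
      rw [hy', pol_sub_right, pol_comm x ((tr y / 2) • one8 F), pol_smul_left, pol_one, hxt, mul_zero, sub_zero]
    rw [hpy]
    linear_combination -h

end

end CfsgLib.G2Octonion
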