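import Cfsg.Agent.G2Octonion.Elements

/-!
Regular unipotent elements of the group of type G2 in the small characteristics.
-/

set_option autoImplicit false
set_option maxRecDepth 100000
set_option linter.style.haveILetI false

namespace CfsgLib.G2Octonion

open Cfsg.Lie Matrix

noncomputable section

/-- A power of a regular unipotent element. -/
def MTwo1 : Matrix (Fin 8) (Fin 8) (ZMod 2) :=
  !![1, 0, 0, 0, 0, 1, 0, 0;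
    1, 1, 1, 0, 0, 1, 0, 1;
    1, 0, 1, 0, 0, 1, 0, 1;
    0, 0, 0, 1, 0, 0, 0, 0;
    0, 0, 0, 1, 1, 0, 0, 0;
    0, 0, 0, 1, 1, 1, 0, 0;
    0, 1, 0, 0, 0, 0, 1, 0;
    0, 0, 0, 0, 0, 1, 0, 1]

/-- A power of a regular unipotent element. -/
def MTwo2 : Matrix (Fin 8) (Fin 8) (ZMod 2) :=
  !![1, 0, 0, 1, 1, 0, 0, 0;
    1, 1, 0, 1, 1, 1, 0, 1;
    0, 0, 1, 1, 1, 0, 0, 0;
    0, 0, 0, 1, 0, 0, 0, 0;
    0, 0, 0, 0, 1, 0, 0, 0;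
    0, 0, 0, 1, 0, 1, 0, 0;
    1, 0, 1, 0, 0, 1, 1, 1;
    0, 0, 0, 1, 1, 0, 0, 1]

/-- A power of a regular unipotent element. -/
def MTwo4 : Matrix (Fin 8) (Fin 8) (ZMod 2) :=
  !![1, 0, 0, 0, 0, 0, 0, 0;
    0, 1, 0, 1, 0, 0, 0, 0;
    0, 0, 1, 0, 0, 0, 0, 0;
    0, 0, 0, 1, 0, 0, 0, 0;
    0, 0, 0, 0, 1, 0, 0, 0;
    0, 0, 0, 0, 0, 1, 0, 0;
    0, 0, 0, 0, 1, 0, 1, 0;
    0, 0, 0, 0, 0, 0, 0, 1]

/-- A power of a regular unipotent element. -/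
def MThree1 : Matrix (Fin 8) (Fin 8) (ZMod 3) :=
  !![1, 0, 0, 0, 0, 1, 0, 0;
    2, 1, 1, 0, 0, 2, 0, 1;
    2, 0, 1, 0, 0, 2, 0, 1;
    0, 0, 0, 1, 0, 0, 0, 0;
    0, 0, 0, 2, 1, 0, 0, 0;
    0, 0, 0, 1, 2, 1, 0, 0;
    0, 1, 0, 0, 0, 0, 1, 0;
    0, 0, 0, 0, 0, 2, 0, 1]

/-- A power of a regular unipotent element. -/
def MThree2 : Matrix (Fin 8) (Fin 8) (ZMod 3) :=
  !![1, 0, 0, 1, 2, 2, 0, 0;
    0, 1, 2, 2, 1, 1, 0, 0;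
    1, 0, 1, 2, 1, 2, 0, 2;
    0, 0, 0, 1, 0, 0, 0, 0;
    0, 0, 0, 1, 1, 0, 0, 0;
    0, 0, 0, 0, 1, 1, 0, 0;
    2, 2, 1, 0, 0, 2, 1, 1;
    0, 0, 0, 2, 1, 1, 0, 1]

/-- A power of a regular unipotent element. -/
def MThree3 : Matrix (Fin 8) (Fin 8) (ZMod 3) :=
  !![1, 0, 0, 1, 0, 0, 0, 0;
    0, 1, 0, 2, 0, 1, 0, 0;
    0, 0, 1, 0, 2, 0, 0, 0;
    0, 0, 0, 1, 0, 0, 0, 0;
    0, 0, 0, 0, 1, 0, 0, 0;
    0, 0, 0, 0, 0, 1, 0, 0;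
    2, 0, 0, 2, 1, 0, 1, 1;
    0, 0, 0, 2, 0, 0, 0, 1]

/-- A power of a regular unipotent element. -/
def MFive1 : Matrix (Fin 8) (Fin 8) (ZMod 5) :=
  !![1, 0, 0, 0, 0, 1, 0, 0;
    4, 1, 1, 0, 0, 4, 0, 1;
    4, 0, 1, 0, 0, 4, 0, 1;
    0, 0, 0, 1, 0, 0, 0, 0;
    0, 0, 0, 4, 1, 0, 0, 0;
    0, 0, 0, 1, 4, 1, 0, 0;
    0, 1, 0, 0, 0, 0, 1, 0;
    0, 0, 0, 0, 0, 4, 0, 1]

/-- A power of a regular unipotent element. -/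
def MFive2 : Matrix (Fin 8) (Fin 8) (ZMod 5) :=
  !![1, 0, 0, 1, 4, 2, 0, 0;
    2, 1, 2, 4, 1, 0, 0, 3;
    3, 0, 1, 4, 1, 1, 0, 2;
    0, 0, 0, 1, 0, 0, 0, 0;
    0, 0, 0, 3, 1, 0, 0, 0;
    0, 0, 0, 3, 3, 1, 0, 0;
    4, 2, 1, 0, 0, 4, 1, 1;
    0, 0, 0, 4, 1, 3, 0, 1]

/-- A power of a regular unipotent element. -/
def MFive4 : Matrix (Fin 8) (Fin 8) (ZMod 5) :=
  !![1, 0, 0, 0, 4, 4, 0, 0;
    0, 1, 4, 3, 0, 0, 0, 0;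
    1, 0, 1, 0, 4, 4, 0, 4;
    0, 0, 0, 1, 0, 0, 0, 0;
    0, 0, 0, 1, 1, 0, 0, 0;
    0, 0, 0, 0, 1, 1, 0, 0;
    0, 4, 1, 2, 2, 0, 1, 0;
    0, 0, 0, 0, 1, 1, 0, 1]

/-- A power of a regular unipotent element. -/
def MFive5 : Matrix (Fin 8) (Fin 8) (ZMod 5) :=
  !![1, 0, 0, 0, 0, 0, 0, 0;
    0, 1, 0, 3, 0, 0, 0, 0;
    0, 0, 1, 0, 0, 0, 0, 0;
    0, 0, 0, 1, 0, 0, 0, 0;
    0, 0, 0, 0, 1, 0, 0, 0;
    0, 0, 0, 0, 0, 1, 0, 0;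
    0, 0, 0, 0, 2, 0, 1, 0;
    0, 0, 0, 0, 0, 0, 0, 1]
variable {p : ℕ} [Fact p.Prime]

theorem fact_five : Fact (Nat.Prime 5) := ⟨by norm_num⟩

attribute [local instance] fact_five

/-- A product of two simple root automorphisms. -/
def regU (p : ℕ) [Fact p.Prime] : G2 (ZMod p) := xG 6 1 * xG 7 1

theorem mat_regU : mat (regU p) = xAut 6 1 * xAut 7 1 := rfl

theorem regU_two : mat (regU 2) = MTwo1 ∧ MTwo1 * MTwo1 = MTwo2 ∧ MTwo2 * MTwo2 = MTwo4 ∧ MTwo4 * MTwo4 = 1 ∧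
    MTwo4 ≠ 1 := by
  rw [mat_regU]
  decide +kernel

theorem regU_three : mat (regU 3) = MThree1 ∧ MThree1 * MThree1 = MThree2 ∧ MThree2 * MThree1 = MThree3 ∧
    MThree3 * MThree3 * MThree3 = 1 ∧ MThree3 ≠ 1 := by
  rw [mat_regU]
  decide +kernel

theorem regU_five : mat (regU 5) = MFive1 ∧ MFive1 * MFive1 = MFive2 ∧ MFive2 * MFive2 = MFive4 ∧
    MFive4 * MFive1 = MFive5 ∧ MFive5 ≠ 1 := by
  rw [mat_regU]
  decide +kernel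

theorem five_five : MFive5 * MFive5 * (MFive5 * MFive5) * MFive5 = 1 := by decide +kernel

theorem mat_pow' {K : Type*} [Field K] (g : G2 K) (n : ℕ) : mat (g ^ n) = mat g ^ n := by simp [mat]

theorem eq_one_iff_mat {K : Type*} [Field K] (g : G2 K) : g = 1 ↔ mat g = 1 :=
  ⟨fun h => by rw [h]; rfl, fun h => Subtype.ext (Units.ext h)⟩

theorem orderOf_regU_two : orderOf (regU 2) = 8 := by
  obtain ⟨e1', e2', e4, e8, ne⟩ := regU_two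
  have h4 : mat (regU 2) ^ 4 = MTwo4 := by rw [e1', show 4 = 2 + 2 from rfl, pow_add, pow_two, e2', e4]
  exact orderOf_eq_prime_pow (p := 2) (n := 2)
    (by rw [eq_one_iff_mat, mat_pow']; exact h4.trans_ne ne)
    (by rw [eq_one_iff_mat, mat_pow', show 2 ^ (2 + 1) = 4 + 4 from rfl, pow_add, h4, e8])

theorem orderOf_regU_three : orderOf (regU 3) = 9 := by
  obtain ⟨e1', e2', e3, e9, ne⟩ := regU_three
  have h3 : mat (regU 3) ^ 3 = MThree3 := by rw [e1', pow_succ, pow_two, e2', e3]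
  exact orderOf_eq_prime_pow (p := 3) (n := 1)
    (by rw [eq_one_iff_mat, mat_pow', pow_one]; exact h3.trans_ne ne)
    (by rw [eq_one_iff_mat, mat_pow', show 3 ^ (1 + 1) = 3 + 3 + 3 from rfl, pow_add, pow_add, h3, e9])

theorem orderOf_regU_five : orderOf (regU 5) = 25 := by
  obtain ⟨e1', e2', e4, e5, ne⟩ := regU_five
  have h5 : mat (regU 5) ^ 5 = MFive5 := by
    refine (congrArg (mat (regU 5) ^ ·) (show 5 = 2 + 2 + 1 from rfl)).trans ?_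
    rw [pow_add, pow_add, pow_two, pow_one, e1', e2', e4, e5]
  exact orderOf_eq_prime_pow (p := 5) (n := 1)
    (by rw [eq_one_iff_mat, mat_pow', pow_one]; exact h5.trans_ne ne)
    (by
      rw [eq_one_iff_mat, mat_pow', show 5 ^ (1 + 1) = 5 + 5 + (5 + 5) + 5 from rfl, pow_add, pow_add, pow_add, h5,
        five_five])

variable {F : Type*} [Field F] [Fintype F]

omit [Fintype F] in
theorem exists_orderOf_zmod {p : ℕ} [Fact p.Prime] [CharP F p] (u : G2 (ZMod p)) : ∃ g : G2 F, orderOf g = orderOf u :=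
  ⟨mapG (ZMod.castHom (dvd_refl p) F) u, orderOf_injective _ (mapG_injective _) u⟩

theorem exists_regular {p : ℕ} [hp : Fact p.Prime] [CharP F p] (h : p = 2 ∨ p = 3 ∨ p = 5) :
    ∃ g : G2 F, orderOf g = uniExp p := by
  rcases h with rfl | rfl | rfl
  · obtain ⟨g, hg⟩ := exists_orderOf_zmod (F := F) (regU 2)
    exact ⟨g, hg.trans orderOf_regU_two⟩
  · obtain ⟨g, hg⟩ := exists_orderOf_zmod (F := F) (regU 3)
    exact ⟨g, hg.trans orderOf_regU_three⟩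
  · obtain ⟨g, hg⟩ := exists_orderOf_zmod (F := F) (regU 5)
    exact ⟨g, hg.trans orderOf_regU_five⟩

end

end CfsgLib.G2Octonion
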