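import Cfsg.Agent.G2Octonion.Regular

/-!
The element orders of the Chevalley group of type G2 that are maximal under divisibility.
-/

set_option autoImplicit false
set_option linter.style.haveILetI false

namespace CfsgLib.G2Octonion

open Cfsg.Lie

noncomputable section

variable {F : Type*} [Field F] [Fintype F] {p a : ℕ}

/-- The element orders of the Chevalley group. -/
abbrev orders (F : Type*) [Field F] : Set ℕ := Set.range (orderOf : ↥(chevG2.group F) → ℕ)

theorem goodExp_of_mem (hp : p.Prime) (hF : Fintype.card F = p ^ a) {n : ℕ} (hn : n ∈ orders F) :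
    GoodExp p (p ^ a) n := by
  haveI : Fact p.Prime := ⟨hp⟩
  obtain ⟨g, rfl⟩ := hn
  have e := MulEquiv.orderOf_eq (chevEquiv (F := F)) g
  rw [← e]
  exact order_bound (F := F) hF _

theorem mem_orders_of_exists {n : ℕ} (h : ∃ g : G2 F, orderOf g = n) : n ∈ orders F := by
  obtain ⟨g, hg⟩ := h
  exact ⟨(chevEquiv (F := F)).symm g, (MulEquiv.orderOf_eq (chevEquiv (F := F)).symm g).trans hg⟩

theorem mem_orders (hp : p.Prime) (ha : 1 ≤ a) (hF : Fintype.card F = p ^ a) :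
    (p ^ a) ^ 2 + p ^ a + 1 ∈ orders F ∧ (p ^ a) ^ 2 - p ^ a + 1 ∈ orders F ∧ (p ^ a) ^ 2 - 1 ∈ orders F ∧
      p * (p ^ a - 1) ∈ orders F ∧ p * (p ^ a + 1) ∈ orders F ∧ (p = 2 → 8 ∈ orders F ∧ 12 ∈ orders F) ∧
      (p = 3 ∨ p = 5 → p ^ 2 ∈ orders F) := by
  haveI : Fact p.Prime := ⟨hp⟩
  haveI : CharP F p := charP_of_card_eq_prime_pow hF
  let K := AlgebraicClosure F
  haveI : CharP K p := charP_of_injective_algebraMap (algebraMap F K).injective p
  let ι : F →+* K := algebraMap F K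
  let σ : K ≃+* K := iterateFrobeniusEquiv K p a
  have hσ : ∀ x : K, σ x = x ^ p ^ a := fun x => iterateFrobeniusEquiv_def K p a x
  refine ⟨mem_orders_of_exists (exists_q2q1 ha hF ι σ hσ), mem_orders_of_exists (exists_q2mq1 ha hF ι σ hσ),
    mem_orders_of_exists (exists_q2m1 ha hF ι σ hσ), mem_orders_of_exists (exists_pqm1 ha hF ι σ hσ),
    mem_orders_of_exists (exists_pqp1 ha hF ι σ hσ), fun h2 => ⟨?_, ?_⟩, fun h35 => ?_⟩
  · have h := mem_orders_of_exists (exists_regular (F := F) (p := p) (Or.inl h2))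
    simpa [uniExp, h2] using h
  · exact mem_orders_of_exists (exists_twelve ha hF ι σ hσ h2)
  · have h := mem_orders_of_exists (exists_regular (F := F) (p := p) (Or.inr h35))
    rcases h35 with rfl | rfl <;> simpa [uniExp] using h

theorem not_dvd_of_lt {x y : ℕ} (h1 : x < y) (h2 : y < 2 * x) : ¬ x ∣ y := by
  rintro ⟨k, rfl⟩
  rcases k with _ | _ | k
  · omega
  · omega
  · nlinarith

/-- The listed orders in odd characteristic. -/
def oddList (p q : ℕ) : Set ℕ :=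
  {p * (q + 1), p * (q - 1), q ^ 2 - 1, q ^ 2 + q + 1, q ^ 2 - q + 1} ∪ (if p = 3 ∨ p = 5 then {p ^ 2} else ∅)

theorem mem_oddList {p q n : ℕ} : n ∈ oddList p q ↔ n = p * (q + 1) ∨ n = p * (q - 1) ∨ n = q ^ 2 - 1 ∨
    n = q ^ 2 + q + 1 ∨ n = q ^ 2 - q + 1 ∨ ((p = 3 ∨ p = 5) ∧ n = p ^ 2) := by
  unfold oddList
  split_ifs with h <;> simp [h] <;> tauto

theorem oddList_antichain (hp : p.Prime) (hp2 : p ≠ 2) (ha : 1 ≤ a) (hq5 : 5 ≤ p ^ a) {d e : ℕ}
    (hd : d ∈ oddList p (p ^ a)) (he : e ∈ oddList p (p ^ a)) (hde : d ∣ e) : d = e := by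
  set q := p ^ a with hq
  have hpq : p ∣ q := hq ▸ dvd_pow_self p (by omega)
  have hqodd : q % 2 = 1 := by
    rcases hp.eq_two_or_odd with h | h
    · exact absurd h hp2
    · rw [hq, Nat.pow_mod, h, one_pow, Nat.one_mod]
  have hple : p ≤ q := Nat.le_of_dvd (by omega) hpq
  have h5 : 5 * q ≤ q ^ 2 := by rw [sq]; exact Nat.mul_le_mul_right q hq5
  have hpq2 : p ∣ q ^ 2 := dvd_pow hpq two_ne_zero
  have hp1 : ¬ p ∣ 1 := fun h => hp.one_lt.ne' (Nat.dvd_one.1 h)
  have nC : ¬ p ∣ q ^ 2 - 1 := fun h => hp1 (by simpa [show q ^ 2 - (q ^ 2 - 1) = 1 by omega] using Nat.dvd_sub hpq2 h)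
  have n3 : ¬ p ∣ q ^ 2 + q + 1 := fun h => hp1 ((Nat.dvd_add_right (dvd_add hpq2 hpq)).1 h)
  have n6 : ¬ p ∣ q ^ 2 - q + 1 := fun h => hp1 ((Nat.dvd_add_right (Nat.dvd_sub hpq2 hpq)).1 h)
  have cop : ∀ {x y : ℕ}, ¬ p ∣ x → x ∣ p * y → x ∣ y := fun hx h =>
    (hp.coprime_iff_not_dvd.2 hx).symm.dvd_of_dvd_mul_left h
  have copsq : ∀ {x : ℕ}, ¬ p ∣ x → x ∣ p ^ 2 → x = 1 := fun hx h =>
    Nat.eq_one_of_dvd_coprimes ((hp.coprime_iff_not_dvd.2 hx).symm.pow_right 2) dvd_rfl h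
  have can : ∀ {x y : ℕ}, p * x ∣ p * y → x ∣ y := fun h => (Nat.mul_dvd_mul_iff_left hp.pos).1 h
  have nA : ¬ p ∣ q + 1 := fun h => hp1 ((Nat.dvd_add_right hpq).1 h)
  have nB : ¬ p ∣ q - 1 := fun h => hp1 (by simpa [show q - (q - 1) = 1 by omega] using Nat.dvd_sub hpq h)
  have leA : ∀ {x : ℕ}, x ∣ q + 1 → x ≤ q + 1 := fun h => Nat.le_of_dvd (by omega) h
  have leB : ∀ {x : ℕ}, x ∣ q - 1 → x ≤ q - 1 := fun h => Nat.le_of_dvd (by omega) h
  rw [mem_oddList] at hd he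
  rcases hd with rfl | rfl | rfl | rfl | rfl | ⟨-, rfl⟩
  · rcases he with rfl | rfl | rfl | rfl | rfl | ⟨-, rfl⟩
    · rfl
    · have := leB (can hde); omega
    · exact absurd ((dvd_mul_right p _).trans hde) nC
    · exact absurd ((dvd_mul_right p _).trans hde) n3
    · exact absurd ((dvd_mul_right p _).trans hde) n6
    · rw [sq] at hde
      have := Nat.le_of_dvd hp.pos (can hde); omega
  · rcases he with rfl | rfl | rfl | rfl | rfl | ⟨-, rfl⟩
    · have h := Nat.dvd_sub (can hde) dvd_rfl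
      rw [show q + 1 - (q - 1) = 2 by omega] at h
      have := Nat.le_of_dvd two_pos h; omega
    · rfl
    · exact absurd ((dvd_mul_right p _).trans hde) nC
    · exact absurd ((dvd_mul_right p _).trans hde) n3
    · exact absurd ((dvd_mul_right p _).trans hde) n6
    · rw [sq] at hde
      rcases (Nat.dvd_prime hp).1 (can hde) with h | h
      · omega
      · exact absurd h.symm.dvd nB
  · rcases he with rfl | rfl | rfl | rfl | rfl | ⟨-, rfl⟩
    · have := leA (cop nC hde); omega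
    · have := leB (cop nC hde); omega
    · rfl
    · exact absurd hde (not_dvd_of_lt (by omega) (by omega))
    · have := Nat.le_of_dvd (by omega) hde; omega
    · have := copsq nC hde; omega
  · rcases he with rfl | rfl | rfl | rfl | rfl | ⟨-, rfl⟩
    · have := leA (cop n3 hde); omega
    · have := leB (cop n3 hde); omega
    · have := Nat.le_of_dvd (by omega) hde; omega
    · rfl
    · have := Nat.le_of_dvd (by omega) hde; omega
    · have := copsq n3 hde; omega
  · rcases he with rfl | rfl | rfl | rfl | rfl | ⟨-, rfl⟩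
    · have := leA (cop n6 hde); omega
    · have := leB (cop n6 hde); omega
    · exact absurd hde (not_dvd_of_lt (by omega) (by omega))
    · exact absurd hde (not_dvd_of_lt (by omega) (by omega))
    · rfl
    · have := copsq n6 hde; omega
  · rcases he with rfl | rfl | rfl | rfl | rfl | ⟨-, rfl⟩
    · rw [sq p] at hde; exact absurd (can hde) nA
    · rw [sq p] at hde; exact absurd (can hde) nB
    · exact absurd ((dvd_pow_self p two_ne_zero).trans hde) nC
    · exact absurd ((dvd_pow_self p two_ne_zero).trans hde) n3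
    · exact absurd ((dvd_pow_self p two_ne_zero).trans hde) n6
    · rfl

/-- The maximal element orders in odd characteristic. -/
theorem maximal_odd (hp : p.Prime) (hp2 : p ≠ 2) (ha : 1 ≤ a) (hF : Fintype.card F = p ^ a)
    (hq5 : 5 ≤ Fintype.card F) :
    {n : ℕ | n ∈ orders F ∧ ∀ m ∈ orders F, n ∣ m → m = n} = oddList p (p ^ a) := by
  obtain ⟨h3, h6, hC, hB, hA, -, hP⟩ := mem_orders hp ha hF
  have hlist : ∀ d ∈ oddList p (p ^ a), d ∈ orders F := by
    intro d hd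
    rw [mem_oddList] at hd
    rcases hd with rfl | rfl | rfl | rfl | rfl | ⟨h35, rfl⟩
    exacts [hA, hB, hC, h3, h6, hP h35]
  have hcover : ∀ m ∈ orders F, ∃ d ∈ oddList p (p ^ a), m ∣ d := by
    intro m hm
    simp only [mem_oddList]
    rcases goodExp_of_mem hp hF hm with h | h | h | h | h | ⟨h2, -⟩ | ⟨h35, h⟩
    · exact ⟨_, Or.inr (Or.inr (Or.inr (Or.inl rfl))), h⟩
    · exact ⟨_, Or.inr (Or.inr (Or.inr (Or.inr (Or.inl rfl)))), h⟩
    · exact ⟨_, Or.inr (Or.inr (Or.inl rfl)), h⟩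
    · exact ⟨_, Or.inr (Or.inl rfl), h⟩
    · exact ⟨_, Or.inl rfl, h⟩
    · exact absurd h2 hp2
    · exact ⟨_, Or.inr (Or.inr (Or.inr (Or.inr (Or.inr ⟨h35, rfl⟩)))), h⟩
  ext n
  constructor
  · rintro ⟨hn, hmax⟩
    obtain ⟨d, hd, hnd⟩ := hcover n hn
    rwa [← hmax d (hlist d hd) hnd]
  · intro hn
    refine ⟨hlist n hn, fun m hm hnm => ?_⟩
    obtain ⟨d, hd, hmd⟩ := hcover m hm
    have e := oddList_antichain hp hp2 ha (hF ▸ hq5) hn hd (hnm.trans hmd)
    subst e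
    exact Nat.dvd_antisymm hmd hnm

/-- The maximal element orders in characteristic two. -/
theorem maximal_even (ha : 1 ≤ a) (hF : Fintype.card F = 2 ^ a) :
    {n : ℕ | n ∈ orders F ∧ ∀ m ∈ orders F, n ∣ m → m = n} ⊆ ({8, 12, 2 * (2 ^ a + 1), 2 * (2 ^ a - 1),
      (2 ^ a) ^ 2 - 1, (2 ^ a) ^ 2 + 2 ^ a + 1, (2 ^ a) ^ 2 - 2 ^ a + 1} : Set ℕ) ∧
    ({8, 12, 2 * (2 ^ a + 1), 2 * (2 ^ a - 1), (2 ^ a) ^ 2 - 1, (2 ^ a) ^ 2 + 2 ^ a + 1,
      (2 ^ a) ^ 2 - 2 ^ a + 1} : Set ℕ) ⊆ orders F := by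
  obtain ⟨h3, h6, hC, hB, hA, h8, -⟩ := mem_orders Nat.prime_two ha hF
  obtain ⟨h8, h12⟩ := h8 rfl
  constructor
  · rintro n ⟨hn, hmax⟩
    simp only [Set.mem_insert_iff, Set.mem_singleton_iff]
    rcases goodExp_of_mem Nat.prime_two hF hn with h | h | h | h | h | ⟨-, h | h⟩ | ⟨h35, -⟩
    · have := hmax _ h3 h; omega
    · have := hmax _ h6 h; omega
    · have := hmax _ hC h; omega
    · have := hmax _ hB h; omega
    · have := hmax _ hA h; omega
    · have := hmax _ h8 h; omega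
    · have := hmax _ h12 h; omega
    · omega
  · intro n hn
    simp only [Set.mem_insert_iff, Set.mem_singleton_iff] at hn
    rcases hn with rfl | rfl | rfl | rfl | rfl | rfl | rfl
    exacts [h8, h12, hA, hB, hC, h3, h6]

end

end CfsgLib.G2Octonion
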