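import Cfsg.Agent.G2Octonion.Quadratic

/-!
The Frobenius map permutes the eigenvalues of the automorphisms fixing an idempotent.
-/

set_option autoImplicit false
set_option linter.style.haveILetI false

namespace CfsgLib.G2Octonion

open Cfsg.Lie Matrix CfsgLib.SylowTwoAb.Oct

noncomputable section

variable {K : Type*} [Field K]

theorem isEig_zero {g : G2 K} (hg : app g (e1 K) = e1 K) : ¬ IsEig (partA g) 0 := by
  intro h
  rw [IsEig, map_zero, zero_sub, Matrix.det_neg, det_partA hg] at h
  simp at h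

theorem isEig_map (σ : K ≃+* K) (M : Matrix (Fin 3) (Fin 3) K) {x : K} (h : IsEig M x) :
    IsEig (M.map σ) (σ x) := by
  have e : Matrix.scalar (Fin 3) (σ x) - M.map σ = (Matrix.scalar (Fin 3) x - M).map σ := by
    rw [Matrix.map_sub _ (map_sub σ), Matrix.scalar_apply, Matrix.scalar_apply,
      Matrix.diagonal_map (map_zero σ)]
  rw [IsEig] at h ⊢
  rw [e, ← RingEquiv.mapMatrix_apply, ← RingEquiv.map_det, h, map_zero]

theorem partA_one : partA (1 : G2 K) = 1 := by
  have h : app (1 : G2 K) (e1 K) = e1 K := app_one_group _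
  refine Matrix.toLin'.injective (LinearMap.ext fun u => ?_)
  simp only [Matrix.toLin'_apply]
  rw [← zA_app_inA, app_one_group, Matrix.one_mulVec]
  funext i
  fin_cases i <;> simp [zA, inA]

theorem inv_fix {g : G2 K} {x : Fin 8 → K} (hg : app g x = x) : app g⁻¹ x = x := by
  conv_lhs => rw [← hg, app_inv_app]

/-- Conjugation by an element fixing the idempotent conjugates the action on the first Peirce space. -/
theorem isEig_conj_fix {w k : G2 K} (hw : app w (e1 K) = e1 K) (hk : app k (e1 K) = e1 K) (x : K) :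
    IsEig (partA (w * k * w⁻¹)) x ↔ IsEig (partA k) x := by
  rw [partA_mul (inv_fix hw), partA_mul hk]
  refine isEig_conj ?_ x
  rw [← partA_mul (inv_fix hw), mul_inv_cancel, partA_one]

/-- The permutation of the eigenvalues. -/
theorem exists_twist (σ : K ≃+* K) {q : ℕ} (hσ : ∀ x, σ x = x ^ q) {h : G2 K} {e : Fin 8 → K}
    (he : app h e = e1 K) (hσe : (σ : K →+* K) ∘ e = e ∨ (σ : K →+* K) ∘ e = one8 K - e) :
    ∃ tw : Bool, ∀ k0 : G2 K, autG σ k0 = k0 → app (h * k0 * h⁻¹) (e1 K) = e1 K →
      ∀ x, IsEig (partA (h * k0 * h⁻¹)) x → IsEig (partA (h * k0 * h⁻¹)) (eigMap tw q x) := by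
  set w := autG σ h * h⁻¹ with hw
  have hσh : app (autG σ h) ((σ : K →+* K) ∘ e) = e1 K := by
    rw [app_autG, he, comp_e1]
  have hconj : ∀ k0, autG σ k0 = k0 → autG σ (h * k0 * h⁻¹) = w * (h * k0 * h⁻¹) * w⁻¹ := by
    intro k0 hk0
    rw [map_mul, map_mul, map_inv, hk0, hw]
    group
  clear_value w
  rcases hσe with h1 | h1
  · refine ⟨false, fun k0 hk0 hk x hx => ?_⟩
    have hwfix : app w (e1 K) = e1 K := by
      rw [hw, app_mul_group, ← he, app_inv_app]
      rw [h1] at hσh
      rw [hσh, he]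
    have h2 := isEig_map σ _ hx
    rw [← partA_autG, hconj k0 hk0, isEig_conj_fix hwfix hk, hσ] at h2
    simpa [eigMap] using h2
  · refine ⟨true, fun k0 hk0 hk x hx => ?_⟩
    have hwfix : app (w * tau K) (e1 K) = e1 K := by
      have hinv : app h⁻¹ (one8 K - e1 K) = one8 K - e := by
        rw [sub_eq_add_neg, app_add', app_one, ← neg_one_smul K (e1 K), app_smul', ← he, app_inv_app,
          neg_one_smul, ← sub_eq_add_neg]
      rw [app_mul_group, app_tau_e1, hw, app_mul_group, hinv]
      rw [h1] at hσh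
      exact hσh
    have htau : (tau K)⁻¹ = tau K := inv_eq_of_mul_eq_one_right tau_mul_tau
    have e2 : w * (h * k0 * h⁻¹) * w⁻¹ =
        w * tau K * (tau K * (h * k0 * h⁻¹) * tau K) * (w * tau K)⁻¹ := by
      rw [_root_.mul_inv_rev, htau]
      simp only [mul_assoc]
      rw [← mul_assoc (tau K) (tau K), ← mul_assoc (tau K) (tau K), tau_mul_tau, one_mul, one_mul]
    have h2 := isEig_map σ _ hx
    rw [← partA_autG, hconj k0 hk0, e2, isEig_conj_fix hwfix (conj_tau_fix hk), partA_conj_tau hk,
      isEig_partB hk, hσ] at h2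
    simpa [eigMap] using h2.2

end

end CfsgLib.G2Octonion
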